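import Mathlib
import Cfsg.Agent.Lib.Involution.Basic

/-!
Sets of involutions closed under their own conjugation in which any two members commute or have
product of a fixed odd prime order `p`.
-/

set_option autoImplicit false

namespace Cfsg.Agent.Lib.PTransp90

variable {G : Type*} [Group G]

/-- Involutions closed under their own conjugation, any two commuting or with product of order `p`. -/
structure IsPT (p : ℕ) (D : Set G) : Prop where
  sq : ∀ {d : G}, d ∈ D → d * d = 1
  ne_one : ∀ {d : G}, d ∈ D → d ≠ 1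
  conj_mem : ∀ {a b : G}, a ∈ D → b ∈ D → a * b * a ∈ D
  comm_or : ∀ {a b : G}, a ∈ D → b ∈ D → Commute a b ∨ orderOf (a * b) = p

/-- The involution of the dihedral group of `a, b` which exchanges `a` and `b`. -/
def mid (p : ℕ) (a b : G) : G := a * (a * b) ^ ((p + 1) / 2)

/-- Two commuting members and a third one giving a genuinely non-collinear configuration. -/
structure IsB (D : Set G) (x z y : G) : Prop where
  memx : x ∈ D
  memz : z ∈ D
  memy : y ∈ D
  comm : Commute x z
  ne : x ≠ z
  ncx : ¬ Commute y x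
  ncz : ¬ Commute y z
  nct : ¬ Commute y ((x * z) * y * (x * z))

/-- In every `IsB` configuration the product of the commuting pair is a member. -/
def CB (D : Set G) : Prop := ∀ x z y : G, IsB D x z y → x * z ∈ D

theorem exists_zpow_eq {p : ℕ} [Fact p.Prime] {s : G} (hs : s ^ p = 1) {k : ℤ}
    (hk : ¬ (p : ℤ) ∣ k) : ∃ m : ℤ, (s ^ k) ^ m = s := by
  have hcop : IsCoprime (p : ℤ) k :=
    (Nat.prime_iff_prime_int.mp (Fact.out : p.Prime)).coprime_iff_not_dvd.mpr hk
  obtain ⟨u, v, huv⟩ := hcop
  refine ⟨v, ?_⟩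
  rw [← zpow_mul]
  calc s ^ (k * v) = (s ^ (p : ℤ)) ^ u * s ^ (k * v) := by
        rw [zpow_natCast, hs, one_zpow, one_mul]
    _ = s ^ (1 : ℤ) := by rw [← zpow_mul, ← zpow_add]; congr 1; linarith
    _ = s := zpow_one s

theorem conj_eq_of_commute {g a : G} (hg : g * g = 1) (h : Commute g a) : g * a * g = a := by
  rw [h.eq, mul_assoc, hg, mul_one]

theorem commute_of_conj_eq {g a : G} (hg : g * g = 1) (h : g * a * g = a) : Commute g a := by
  have : g * a * g * g = a * g := by rw [h]
  rwa [mul_assoc (g * a), hg, mul_one] at this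

theorem conj_conj {g a : G} (hg : g * g = 1) : g * (g * a * g) * g = a := by
  simp only [← mul_assoc, hg, one_mul]
  rw [mul_assoc, hg, mul_one]

variable {p : ℕ} [Fact p.Prime] {D : Set G} (h : IsPT p D)
include h

theorem inv_eq {d : G} (hd : d ∈ D) : d⁻¹ = d := inv_eq_of_mul_eq_one_right (h.sq hd)

theorem order_of_nc {a b : G} (ha : a ∈ D) (hb : b ∈ D) (hab : ¬ Commute a b) :
    orderOf (a * b) = p := (h.comm_or ha hb).resolve_left hab

theorem pow_of_nc {a b : G} (ha : a ∈ D) (hb : b ∈ D) (hab : ¬ Commute a b) :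
    (a * b) ^ p = 1 := by
  rw [← order_of_nc h ha hb hab]; exact pow_orderOf_eq_one _

theorem sq_mul_of_commute {a b : G} (ha : a ∈ D) (hb : b ∈ D) (hab : Commute a b) :
    (a * b) * (a * b) = 1 := by
  rw [hab.symm.mul_mul_mul_comm, h.sq ha, h.sq hb, mul_one]

theorem not_commute_of_order (hp : p ≠ 2) {a b : G} (ha : a ∈ D) (hb : b ∈ D)
    (ho : orderOf (a * b) = p) : ¬ Commute a b := by
  intro hab
  have hd : p ∣ 2 := by
    rw [← ho]; apply orderOf_dvd_of_pow_eq_one; rw [pow_two]; exact sq_mul_of_commute h ha hb hab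
  exact hp ((Nat.prime_dvd_prime_iff_eq Fact.out Nat.prime_two).mp hd)

theorem mul_conj (k : ℤ) {a b : G} (ha : a ∈ D) (hb : b ∈ D) :
    a * (a * b) ^ k * a = (a * b) ^ (-k) := by
  have := Involution.conj_zpow_pair (h.sq ha) (h.sq hb) k
  rwa [inv_eq h ha, ← zpow_neg] at this

theorem line_even_mem {a b : G} (ha : a ∈ D) (hb : b ∈ D) (j : ℤ) :
    (a * b) ^ (2 * j) * a ∈ D := by
  induction j using Int.induction_on with
  | zero => simpa using ha
  | succ i hi =>
    have := h.conj_mem ha (h.conj_mem hb hi)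
    convert this using 1
    rw [mul_add, mul_one, zpow_add, zpow_two, mul_assoc _ _ a]
    have e := mul_conj h (2 * (i : ℤ)) ha hb
    have hs : a * b * ((a * b) ^ (2 * (i : ℤ))) = (a * b) ^ (2 * (i : ℤ)) * (a * b) :=
      (Commute.refl (a * b)).zpow_right _
    calc (a * b) ^ (2 * (i : ℤ)) * ((a * b) * (a * b) * a)
        = (a * b) * (a * b) ^ (2 * (i : ℤ)) * ((a * b) * a) := by
          rw [hs]; simp only [mul_assoc]
      _ = a * (b * ((a * b) ^ (2 * (i : ℤ)) * a) * b) * a := by simp only [mul_assoc]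
  | pred i hi =>
    have := h.conj_mem hb (h.conj_mem ha hi)
    convert this using 1
    rw [mul_sub, mul_one, zpow_sub, zpow_two]
    have hinv : (a * b)⁻¹ = b * a := by rw [mul_inv_rev, inv_eq h ha, inv_eq h hb]
    have hs : (a * b) ^ (2 * (-(i : ℤ))) * (a * b)⁻¹ = (a * b)⁻¹ * (a * b) ^ (2 * (-(i : ℤ))) :=
      ((Commute.refl (a * b)).zpow_left _).inv_right
    calc (a * b) ^ (2 * (-(i : ℤ))) * ((a * b) * (a * b))⁻¹ * a
        = ((a * b) ^ (2 * (-(i : ℤ))) * (a * b)⁻¹) * (a * b)⁻¹ * a := by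
          rw [mul_inv_rev]; simp only [mul_assoc]
      _ = (b * a) * (a * b) ^ (2 * (-(i : ℤ))) * (b * a) * a := by rw [hs, hinv]
      _ = b * (a * ((a * b) ^ (2 * (-(i : ℤ))) * a) * a) * b := by
          simp only [mul_assoc, h.sq ha, mul_one]

variable (hp : p ≠ 2)
include hp

omit h in
theorem two_mul_half : 2 * (((p + 1) / 2 : ℕ) : ℤ) = (p : ℤ) + 1 := by
  have ho : Odd p := (Fact.out : p.Prime).odd_of_ne_two hp
  obtain ⟨j, hj⟩ := ho
  omega

theorem line_mem {a b : G} (ha : a ∈ D) (hb : b ∈ D) (hab : ¬ Commute a b) (k : ℤ) :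
    (a * b) ^ k * a ∈ D := by
  have := line_even_mem h ha hb (k * (((p + 1) / 2 : ℕ) : ℤ))
  rwa [mul_left_comm, two_mul_half hp, mul_add, mul_one, zpow_add, mul_comm k,
    zpow_mul, zpow_natCast, pow_of_nc h ha hb hab, one_zpow, one_mul] at this

omit hp in
theorem mid_eq {a b : G} (ha : a ∈ D) (hb : b ∈ D) :
    mid p a b = (a * b) ^ (-(((p + 1) / 2 : ℕ) : ℤ)) * a := by
  rw [← mul_conj h _ ha hb, zpow_natCast, mid, mul_assoc, h.sq ha, mul_one]

theorem mid_mem {a b : G} (ha : a ∈ D) (hb : b ∈ D) (hab : ¬ Commute a b) :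
    mid p a b ∈ D := by
  rw [mid_eq h ha hb]; exact line_mem h hp ha hb hab _

omit hp in
theorem mid_sq {a b : G} (ha : a ∈ D) (hb : b ∈ D) : mid p a b * mid p a b = 1 := by
  rw [mid_eq h ha hb]; exact Involution.zpow_mul_mul_self (h.sq ha) (h.sq hb) _

theorem mid_conj_left {a b : G} (ha : a ∈ D) (hb : b ∈ D) (hab : ¬ Commute a b) :
    mid p a b * a * mid p a b = b := by
  set n : ℤ := (((p + 1) / 2 : ℕ) : ℤ) with hn
  have h2 : 2 * n = (p : ℤ) + 1 := two_mul_half hp
  have e : mid p a b = a * (a * b) ^ n := by rw [hn, zpow_natCast]; rfl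
  have e' : mid p a b = (a * b) ^ (-n) * a := mid_eq h ha hb
  calc mid p a b * a * mid p a b = (a * (a * b) ^ n) * a * ((a * b) ^ (-n) * a) := by
        rw [← e', ← e]
    _ = (a * (a * b) ^ n * a) * (a * b) ^ (-n) * a := by simp only [mul_assoc]
    _ = (a * b) ^ (-(2 * n)) * a := by rw [mul_conj h n ha hb, ← zpow_add]; congr 2; ring
    _ = b := by
      rw [h2, neg_add, zpow_add, zpow_neg, zpow_natCast, pow_of_nc h ha hb hab, inv_one,
        one_mul, zpow_neg_one, mul_inv_rev, inv_eq h ha, inv_eq h hb, mul_assoc, h.sq ha, mul_one]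

theorem mid_conj_right {a b : G} (ha : a ∈ D) (hb : b ∈ D) (hab : ¬ Commute a b) :
    mid p a b * b * mid p a b = a := by
  have h1 := mid_conj_left h hp ha hb hab
  calc mid p a b * b * mid p a b = mid p a b * (mid p a b * a * mid p a b) * mid p a b := by rw [h1]
    _ = a := conj_conj (mid_sq h ha hb)

theorem not_commute_mid_left {a b : G} (ha : a ∈ D) (hb : b ∈ D) (hab : ¬ Commute a b) :
    ¬ Commute (mid p a b) a := by
  intro hc
  have h1 := mid_conj_left h hp ha hb hab
  rw [conj_eq_of_commute (mid_sq h ha hb) hc] at h1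
  exact hab (h1 ▸ Commute.refl a)

theorem eq_mid {a d : G} (ha : a ∈ D) (hd : d ∈ D) (had : ¬ Commute a d) :
    d = mid p a (d * a * d) := by
  have hm : (p + 1) / 2 * 2 = p + 1 := by
    obtain ⟨j, hj⟩ := (Fact.out : p.Prime).odd_of_ne_two hp
    omega
  have e : a * (d * a * d) = (a * d) ^ 2 := by rw [pow_two]; simp only [mul_assoc]
  rw [mid, e, ← pow_mul, mul_comm 2, hm, pow_succ, pow_of_nc h ha hd had, one_mul, ← mul_assoc,
    h.sq ha, one_mul]

theorem not_commute_conj {a d : G} (ha : a ∈ D) (hd : d ∈ D) (had : ¬ Commute a d) :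
    ¬ Commute a (d * a * d) := by
  intro hc
  have hs := sq_mul_of_commute h ha (h.conj_mem hd ha) hc
  have e : a * (d * a * d) = (a * d) ^ 2 := by rw [pow_two]; simp only [mul_assoc]
  rw [e, ← pow_two, ← pow_mul] at hs
  have hdvd : p ∣ 2 * 2 := order_of_nc h ha hd had ▸ orderOf_dvd_of_pow_eq_one hs
  rcases (Fact.out : p.Prime).dvd_mul.mp hdvd with h2 | h2 <;>
    exact hp ((Nat.prime_dvd_prime_iff_eq Fact.out Nat.prime_two).mp h2)

theorem mid_swap {a b : G} (ha : a ∈ D) (hb : b ∈ D) (hab : ¬ Commute a b) :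
    mid p b a = mid p a b := by
  have h1 := not_commute_mid_left h hp hb ha (fun hc => hab hc.symm)
  have h2 := mid_conj_right h hp hb ha (fun hc => hab hc.symm)
  have hm := mid_mem h hp hb ha (fun hc => hab hc.symm)
  have h3 : ¬ Commute a (mid p b a) := by
    intro hc
    rw [conj_eq_of_commute (mid_sq h hb ha) hc.symm] at h2
    exact hab (h2 ▸ Commute.refl a)
  have := eq_mid h hp ha hm h3
  rwa [h2] at this

omit hp in
theorem not_commute_line {a b w : G} (ha : a ∈ D) (hb : b ∈ D) (hab : ¬ Commute a b)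
    (hwa : Commute w a) (hwb : ¬ Commute w b) {k : ℤ} (hk : ¬ (p : ℤ) ∣ k) :
    ¬ Commute w ((a * b) ^ k * a) := by
  intro hw
  have h1 : Commute w ((a * b) ^ k) := by
    have := hw.mul_right hwa
    rwa [mul_assoc, h.sq ha, mul_one] at this
  obtain ⟨m, hm⟩ := exists_zpow_eq (pow_of_nc h ha hb hab) hk
  have h2 : Commute w (a * b) := hm ▸ h1.zpow_right m
  have := hwa.mul_right h2
  rw [← mul_assoc, h.sq ha, one_mul] at this
  exact hwb this

/-- If `z, l` commute, `z * l ∈ D` and `x` commutes with `z`, then `x` commutes with `l`. -/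
theorem zl {z l x : G} (hz : z ∈ D) (hl : l ∈ D) (hx : x ∈ D) (hzl : Commute z l)
    (hm : z * l ∈ D) (hxz : Commute x z) : Commute x l := by
  by_contra hxl
  have e : x * (z * l) = z * (x * l) := by rw [← mul_assoc, hxz.eq, mul_assoc]
  have hzc : Commute z (x * l) := hxz.symm.mul_right hzl
  have ho := order_of_nc h hx hl hxl
  rcases h.comm_or hx hm with hc | hc
  · have hs := sq_mul_of_commute h hx hm hc
    rw [e, hzc.symm.mul_mul_mul_comm, h.sq hz, one_mul] at hs
    have hd : p ∣ 2 := ho ▸ orderOf_dvd_of_pow_eq_one (by rw [pow_two]; exact hs)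
    exact hp ((Nat.prime_dvd_prime_iff_eq Fact.out Nat.prime_two).mp hd)
  · have hs : (x * (z * l)) ^ p = 1 := by rw [← hc]; exact pow_orderOf_eq_one _
    rw [e, hzc.mul_pow, pow_of_nc h hx hl hxl, mul_one] at hs
    obtain ⟨j, hj⟩ := (Fact.out : p.Prime).odd_of_ne_two hp
    rw [hj, pow_succ, pow_mul, pow_two, h.sq hz, one_pow, one_mul] at hs
    exact h.ne_one hz hs

theorem isB_mid {x z y : G} (hB : IsB D x z y) :
    let t := x * z
    let m := mid p y (t * y * t)
    m ∈ D ∧ Commute x m ∧ Commute z m ∧ m ≠ x ∧ m ≠ z ∧ m * y * m = t * y * t := by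
  intro t m
  obtain ⟨hx, hz, hy, hxz, hne, hncx, hncz, hnct⟩ := hB
  have ht : t * t = 1 := sq_mul_of_commute h hx hz hxz
  have hy' : t * y * t ∈ D := by
    have := h.conj_mem hx (h.conj_mem hz hy)
    convert this using 1
    show x * z * y * (x * z) = _
    rw [hxz.eq]
    rw [show z * x = x * z from hxz.eq.symm]
    conv_rhs => rw [mul_assoc x, mul_assoc (z * y), ← hxz.eq]
    simp only [mul_assoc]
  have hm : m ∈ D := mid_mem h hp hy hy' hnct
  have hmy : m * y * m = t * y * t := mid_conj_left h hp hy hy' hnct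
  have tm : t * m * t = m := by
    have he := mid_swap h hp hy hy' hnct
    have hti : t⁻¹ = t := inv_eq_of_mul_eq_one_right ht
    show t * mid p y (t * y * t) * t = mid p y (t * y * t)
    conv_rhs => rw [← he]
    unfold mid
    calc t * (y * (y * (t * y * t)) ^ ((p + 1) / 2)) * t
        = (t * y * t) * (t * (y * (t * y * t)) ^ ((p + 1) / 2) * t⁻¹) := by
          rw [hti]; simp only [← mul_assoc]; rw [mul_assoc _ t t, ht, mul_one]
      _ = _ := by
          rw [← conj_pow, hti]
          congr 2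
          simp only [← mul_assoc]
          rw [mul_assoc _ t t, ht, mul_one]
  have hzx : z * m * z = x * m * x := by
    calc z * m * z = x * ((x * z) * m * (x * z)) * x := by
          rw [show x * z * m * (x * z) = x * z * m * (z * x) by rw [hxz.eq]]
          simp only [← mul_assoc, h.sq hx, one_mul]
          rw [mul_assoc _ x x, h.sq hx, mul_one]
      _ = x * m * x := by rw [tm]
  have hxm : Commute x m := by
    by_contra hc
    have h1 := eq_mid h hp hm hx (fun c => hc c.symm)
    by_cases hc2 : Commute z m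
    · rw [conj_eq_of_commute (h.sq hz) hc2] at hzx
      exact hc (commute_of_conj_eq (h.sq hx) hzx.symm)
    · have h2 := eq_mid h hp hm hz (fun c => hc2 c.symm)
      rw [hzx, ← h1] at h2
      exact hne h2.symm
  have hzm : Commute z m := by
    rw [conj_eq_of_commute (h.sq hx) hxm] at hzx
    exact commute_of_conj_eq (h.sq hz) hzx
  refine ⟨hm, hxm, hzm, ?_, ?_, hmy⟩
  · intro e
    rw [e] at hmy
    refine hncz (commute_of_conj_eq (h.sq hz) ?_).symm
    calc z * y * z = x * ((x * z) * y * (x * z)) * x := by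
          rw [show x * z * y * (x * z) = x * z * y * (z * x) by rw [hxz.eq]]
          simp only [← mul_assoc, h.sq hx, one_mul]
          rw [mul_assoc _ x x, h.sq hx, mul_one]
      _ = x * (x * y * x) * x := by rw [← hmy]
      _ = y := conj_conj (h.sq hx)
  · intro e
    rw [e] at hmy
    refine hncx (commute_of_conj_eq (h.sq hx) ?_).symm
    calc x * y * x = z * ((x * z) * y * (x * z)) * z := by
          rw [show x * z * y * (x * z) = z * x * y * (x * z) by rw [hxz.eq]]
          simp only [← mul_assoc, h.sq hz, one_mul]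
          rw [mul_assoc _ z z, h.sq hz, mul_one]
      _ = z * (z * y * z) * z := by rw [← hmy]
      _ = y := conj_conj (h.sq hz)

theorem isB_central {x z y : G} (hB : IsB D x z y) :
    let τ := x * z * mid p y ((x * z) * y * (x * z))
    Commute x τ ∧ Commute z τ ∧ Commute y τ := by
  intro τ
  obtain ⟨hm, hxm, hzm, -, -, hmy⟩ := isB_mid h hp hB
  refine ⟨((Commute.refl x).mul_right hB.comm).mul_right hxm,
    (hB.comm.symm.mul_right (Commute.refl z)).mul_right hzm, ?_⟩
  set t := x * z with ht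
  set m := mid p y (t * y * t) with hm'
  have hts : t * t = 1 := sq_mul_of_commute h hB.memx hB.memz hB.comm
  have htm : Commute t m := hxm.mul_left hzm
  have htm2 : (t * m) * (t * m) = 1 := by
    rw [htm.symm.mul_mul_mul_comm, hts, h.sq hm, mul_one]
  refine (commute_of_conj_eq htm2 ?_).symm
  calc t * m * y * (t * m) = t * m * y * (m * t) := by rw [← htm.eq]
    _ = t * (m * y * m) * t := by simp only [← mul_assoc]
    _ = y := by rw [hmy]; exact conj_conj hts

end Cfsg.Agent.Lib.PTransp90
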