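import Cfsg.Agent.Lib.PTransp90.InvSet

/-!
The configuration in which commuting is transitive and products of distinct commuting members are
members does not exist.
-/

set_option autoImplicit false

namespace Cfsg.Agent.Lib.PTransp90

universe u

variable {G : Type u} [Group G]

/-- The hypotheses on a minimal configuration. -/
structure BW (p : ℕ) (D : Set G) : Prop where
  pt : IsPT p D
  five : 5 ≤ p
  conjG : ∀ (g : G) {d : G}, d ∈ D → g * d * g⁻¹ ∈ D
  isConj : ∀ {a b : G}, a ∈ D → b ∈ D → IsConj a b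
  mul : ∀ {a b : G}, a ∈ D → b ∈ D → Commute a b → a ≠ b → a * b ∈ D
  four : ∀ {g a b y : G}, a ∈ D → b ∈ D → y ∈ D → Commute a b → a ≠ b → ¬ Commute a y →
    Commute g a → Commute g b → Commute g y → g = 1
  nc : ∃ a ∈ D, ∃ b ∈ D, ¬ Commute a b
  pair : ∃ a ∈ D, ∃ b ∈ D, Commute a b ∧ a ≠ b

/-- The members commuting with `a`. -/
def blockOf (D : Set G) (a : G) : Set G := {b | b ∈ D ∧ Commute a b}

/-- The members sending the block of `a` to that of `b`. -/
def exch (D : Set G) (a b : G) : Set G := {d | d ∈ D ∧ Commute (d * a * d) b}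

/-- `r` is a product of two distinct members exchanging the blocks of `a` and `b`. -/
def IsRot (D : Set G) (a b r : G) : Prop :=
  a ∈ D ∧ b ∈ D ∧ ¬ Commute a b ∧ ∃ d ∈ exch D a b, ∃ d' ∈ exch D a b, d ≠ d' ∧ r = d * d'

/-- The members whose block is stabilised by `r`. -/
def fixd (D : Set G) (r : G) : Set G := {f | f ∈ D ∧ Commute f (r * f * r⁻¹)}

variable {p : ℕ} [Fact p.Prime] {D : Set G}

theorem ne_two_of_five (h : BW p D) : p ≠ 2 := by have := h.five; omega

theorem bw_trans (h : BW p D) {a b c : G} (ha : a ∈ D) (hb : b ∈ D) (hc : c ∈ D)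
    (hab : Commute a b) (hbc : Commute b c) : Commute a c := by
  by_cases e : b = a
  · exact e ▸ hbc
  · exact (zl h.pt (ne_two_of_five h) hb ha hc hab.symm (h.mul hb ha hab.symm e) hbc.symm).symm

theorem blockOf_eq (h : BW p D) {a b : G} (ha : a ∈ D) (hb : b ∈ D) (hab : Commute a b) :
    blockOf D b = blockOf D a := by
  ext c
  exact ⟨fun hc => ⟨hc.1, bw_trans h ha hb hc.1 hab hc.2⟩,
    fun hc => ⟨hc.1, bw_trans h hb ha hc.1 hab.symm hc.2⟩⟩

theorem exch_not_commute (h : BW p D) {a b d : G} (hab : ¬ Commute a b) (hd : d ∈ exch D a b) :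
    ¬ Commute a d := by
  intro hc
  have := hd.2
  rw [conj_eq_of_commute (h.pt.sq hd.1) hc.symm] at this
  exact hab this

theorem exch_maps (h : BW p D) {a b d x : G} (ha : a ∈ D) (hb : b ∈ D) (hd : d ∈ exch D a b)
    (hx : x ∈ D) (hxa : Commute x a) : Commute (d * x * d) b := by
  have h1 := (Commute.conj_iff d).mpr hxa
  rw [inv_eq h.pt hd.1] at h1
  exact bw_trans h (h.pt.conj_mem hd.1 hx) (h.pt.conj_mem hd.1 ha) hb h1 hd.2

theorem exch_symm (h : BW p D) {a b d : G} (hd : d ∈ exch D a b) : d ∈ exch D b a := by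
  have h1 := (Commute.conj_iff d).mpr hd.2
  rw [inv_eq h.pt hd.1, conj_conj (h.pt.sq hd.1)] at h1
  exact ⟨hd.1, h1.symm⟩

theorem isPT_exch (h : BW p D) {a b : G} (ha : a ∈ D) (hb : b ∈ D) :
    IsPT p (exch D a b) where
  sq hd := h.pt.sq hd.1
  ne_one hd := h.pt.ne_one hd.1
  comm_or hr hs := h.pt.comm_or hr.1 hs.1
  conj_mem {d d'} hd hd' := by
    refine ⟨h.pt.conj_mem hd.1 hd'.1, ?_⟩
    have h1 : Commute (d' * (d * a * d) * d') a :=
      exch_maps h hb ha (exch_symm h hd') (h.pt.conj_mem hd.1 ha) hd.2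
    have h2 := exch_maps h ha hb hd (h.pt.conj_mem hd'.1 (h.pt.conj_mem hd.1 ha)) h1
    simpa only [mul_assoc] using h2

theorem exch_order (h : BW p D) {a b : G} (ha : a ∈ D) (hb : b ∈ D) (hab : ¬ Commute a b) :
    ∀ d ∈ exch D a b, ∀ d' ∈ exch D a b, d ≠ d' → orderOf (d * d') = p := by
  intro d hd d' hd' hne
  refine (h.pt.comm_or hd.1 hd'.1).resolve_left fun hc => ?_
  have hp := ne_two_of_five h
  have he : d * d' ∈ D := h.mul hd.1 hd'.1 hc hne
  have h1 : Commute (d' * a * d') (d * a * d) :=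
    bw_trans h (h.pt.conj_mem hd'.1 ha) hb (h.pt.conj_mem hd.1 ha) hd'.2 hd.2.symm
  have h2 := (Commute.conj_iff d).mpr h1
  rw [inv_eq h.pt hd.1, conj_conj (h.pt.sq hd.1)] at h2
  have e : d * (d' * a * d') * d = (d * d') * a * (d * d') := by
    conv_rhs => arg 2; rw [hc.eq]
    simp only [mul_assoc]
  rw [e] at h2
  have hae : Commute a (d * d') := by
    by_contra hcon
    exact not_commute_conj h.pt hp ha he hcon h2.symm
  exact exch_not_commute h hab hd
    (bw_trans h ha he hd.1 hae (((Commute.refl d).mul_right hc).symm))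

variable [Finite G]

theorem ncard_blockOf_conj (h : BW p D) {a b : G} (ha : a ∈ D) (hb : b ∈ D) :
    (blockOf D a).ncard = (blockOf D b).ncard := by
  obtain ⟨g, rfl⟩ := isConj_iff.mp (h.isConj ha hb)
  refine Set.ncard_congr (fun c _ => g * c * g⁻¹)
    (fun c hc => ⟨h.conjG g hc.1, (Commute.conj_iff g).mpr hc.2⟩) (fun c c' _ _ e => by simpa using e)
    (fun c hc => ⟨g⁻¹ * c * g, ⟨by simpa using h.conjG g⁻¹ hc.1, ?_⟩, by group⟩)
  have := (Commute.conj_iff g⁻¹).mpr hc.2
  simpa [mul_assoc] using this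

theorem ncard_exch (h : BW p D) {a b : G} (ha : a ∈ D) (hb : b ∈ D) (hab : ¬ Commute a b) :
    (exch D a b).ncard = (blockOf D b).ncard := by
  have hp := ne_two_of_five h
  refine Set.ncard_congr (fun d _ => d * a * d)
    (fun d hd => ⟨h.pt.conj_mem hd.1 ha, hd.2.symm⟩) ?_ ?_
  · intro d d' hd hd' e
    rw [eq_mid h.pt hp ha hd.1 (exch_not_commute h hab hd),
      eq_mid h.pt hp ha hd'.1 (exch_not_commute h hab hd')]
    exact congrArg (mid p a) e
  · intro c hc
    have hac : ¬ Commute a c := fun e => hab (bw_trans h ha hc.1 hb e hc.2.symm)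
    refine ⟨mid p a c, ⟨mid_mem h.pt hp ha hc.1 hac, ?_⟩, mid_conj_left h.pt hp ha hc.1 hac⟩
    rw [mid_conj_left h.pt hp ha hc.1 hac]
    exact hc.2.symm

theorem exists_nc (h : BW p D) {a : G} (ha : a ∈ D) : ∃ b ∈ D, ¬ Commute a b := by
  obtain ⟨u, hu, v, hv, huv⟩ := h.nc
  by_cases e : Commute a u
  · exact ⟨v, hv, fun e' => huv (bw_trans h hu ha hv e.symm e')⟩
  · exact ⟨u, hu, e⟩

/-- All blocks have `p` members. -/
theorem ncard_blockOf (h : BW p D) {a : G} (ha : a ∈ D) : (blockOf D a).ncard = p := by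
  have hp := ne_two_of_five h
  obtain ⟨b, hb, hab⟩ := exists_nc h ha
  have hcard : 2 ≤ (blockOf D a).ncard := by
    obtain ⟨x, hx, z, hz, hxz, hne⟩ := h.pair
    rw [ncard_blockOf_conj h ha hx]
    exact (Set.one_lt_ncard (Set.toFinite _)).mpr
      ⟨x, ⟨hx, Commute.refl x⟩, z, ⟨hz, hxz⟩, hne⟩
  have hne' : (exch D a b).Nonempty := by
    refine Set.nonempty_of_ncard_ne_zero ?_
    rw [ncard_exch h ha hb hab, ← ncard_blockOf_conj h ha hb]; omega
  obtain ⟨j, hj⟩ := ncard_prime_pow (isPT_exch h ha hb) hp hne' (exch_order h ha hb hab)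
  rw [ncard_exch h ha hb hab, ← ncard_blockOf_conj h ha hb] at hj
  let H : Subgroup G :=
    { carrier := insert 1 (blockOf D a)
      one_mem' := Or.inl rfl
      inv_mem' := by
        rintro u (rfl | hu)
        · exact Or.inl inv_one
        · exact Or.inr (by rw [inv_eq h.pt hu.1]; exact hu)
      mul_mem' := by
        rintro u v (rfl | hu) hv
        · simpa using hv
        rcases hv with rfl | hv
        · rw [mul_one]; exact Or.inr hu
        by_cases e : u = v
        · exact Or.inl (e ▸ h.pt.sq hu.1)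
        · exact Or.inr ⟨h.mul hu.1 hv.1 (bw_trans h hu.1 ha hv.1 hu.2.symm hv.2) e,
            hu.2.mul_right hv.2⟩ }
  have hH : IsPGroup 2 H := by
    intro u
    refine ⟨1, Subtype.ext ?_⟩
    rw [pow_one, pow_two, Subgroup.coe_mul, Subgroup.coe_one]
    rcases u.2 with e | e
    · rw [e, one_mul]
    · exact h.pt.sq e.1
  obtain ⟨e, he⟩ := IsPGroup.iff_card.mp hH
  have hcH : Nat.card H = (blockOf D a).ncard + 1 := by
    rw [← Set.ncard_insert_of_notMem (fun hm : (1 : G) ∈ blockOf D a => h.pt.ne_one hm.1 rfl)]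
    exact Nat.card_coe_set_eq _
  have hj1 : 1 ≤ j := by
    by_contra hj0
    rw [show j = 0 by omega, pow_zero] at hj
    omega
  rw [hcH, hj] at he
  rw [hj, eq_one_of_two_pow hp hj1 he.symm, pow_one]

theorem exists_partner (h : BW p D) {a : G} (ha : a ∈ D) :
    ∃ e ∈ D, Commute a e ∧ a ≠ e := by
  have h1 : 1 < (blockOf D a).ncard := by rw [ncard_blockOf h ha]; exact (Fact.out : p.Prime).one_lt
  obtain ⟨e, he, hne⟩ := Set.exists_ne_of_one_lt_ncard h1 a
  exact ⟨e, he.1, he.2, fun e' => hne e'.symm⟩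

theorem ncard_exch' (h : BW p D) {a b : G} (ha : a ∈ D) (hb : b ∈ D) (hab : ¬ Commute a b) :
    (exch D a b).ncard = p := by rw [ncard_exch h ha hb hab, ncard_blockOf h hb]

theorem exists_isRot (h : BW p D) {a b : G} (ha : a ∈ D) (hb : b ∈ D) (hab : ¬ Commute a b) :
    ∃ r, IsRot D a b r := by
  obtain ⟨d, hd, d', hd', hne⟩ := (Set.one_lt_ncard (Set.toFinite _)).mp
    (show 1 < (exch D a b).ncard by
      rw [ncard_exch' h ha hb hab]; exact (Fact.out : p.Prime).one_lt)
  exact ⟨d * d', ha, hb, hab, d, hd, d', hd', hne, rfl⟩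

omit [Finite G] in
theorem rot_order (h : BW p D) {a b r : G} (hr : IsRot D a b r) : orderOf r = p := by
  obtain ⟨ha, hb, hab, d, hd, d', hd', hne, rfl⟩ := hr
  exact exch_order h ha hb hab d hd d' hd' hne

omit [Finite G] in
theorem rot_zpow_p (h : BW p D) {a b r : G} (hr : IsRot D a b r) : r ^ (p : ℤ) = 1 := by
  rw [zpow_natCast, ← rot_order h hr]; exact pow_orderOf_eq_one r

theorem exists_coords (h : BW p D) {a b r : G} (hr : IsRot D a b r) :
    ∃ d ∈ exch D a b, (∀ k : ℤ, r ^ k * d ∈ exch D a b) ∧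
      (∀ m ∈ exch D a b, ∃ k : ℤ, m = r ^ k * d) ∧ d * r * d = r⁻¹ := by
  have hr' := hr
  obtain ⟨ha, hb, hab, d, hd, d', hd', hne, rfl⟩ := hr'
  have hp := ne_two_of_five h
  have hnc : ¬ Commute d d' :=
    not_commute_of_order h.pt hp hd.1 hd'.1 (exch_order h ha hb hab d hd d' hd' hne)
  have hmem : ∀ k : ℤ, (d * d') ^ k * d ∈ exch D a b := fun k =>
    line_mem (isPT_exch h ha hb) hp hd hd' hnc k
  refine ⟨d, hd, hmem, ?_, ?_⟩
  · let f : Fin p → G := fun i => (d * d') ^ (i : ℕ) * d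
    have hf : Function.Injective f := by
      intro i i' e
      have e' := mul_right_cancel e
      have ho := rot_order h hr
      exact Fin.ext (pow_injOn_Iio_orderOf (show (i : ℕ) < orderOf (d * d') by rw [ho]; exact i.2)
        (show (i' : ℕ) < orderOf (d * d') by rw [ho]; exact i'.2) e')
    have hsub : Set.range f ⊆ exch D a b := by
      rintro _ ⟨i, rfl⟩
      have := hmem (i : ℕ)
      rwa [zpow_natCast] at this
    have heq : Set.range f = exch D a b := Set.eq_of_subset_of_ncard_le hsub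
      (by rw [ncard_exch' h ha hb hab, ← Nat.card_coe_set_eq, Nat.card_range_of_injective hf,
        Nat.card_eq_fintype_card, Fintype.card_fin])
    intro m hm
    obtain ⟨i, rfl⟩ := heq.symm ▸ hm
    exact ⟨(i : ℕ), by rw [zpow_natCast]⟩
  · have := mul_conj h.pt 1 hd.1 hd'.1
    rwa [zpow_one, zpow_neg_one] at this

theorem rot_coset (h : BW p D) {a b r m m' : G} (hr : IsRot D a b r) (hm : m ∈ exch D a b)
    (hm' : m' ∈ exch D a b) : ∃ k : ℤ, m' = r ^ k * m := by
  obtain ⟨d, hd, -, hco, -⟩ := exists_coords h hr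
  obtain ⟨i, rfl⟩ := hco m hm
  obtain ⟨j, rfl⟩ := hco m' hm'
  exact ⟨j - i, by rw [← mul_assoc, ← zpow_add, sub_add_cancel]⟩

theorem rot_inverted (h : BW p D) {a b r m : G} (hr : IsRot D a b r) (hm : m ∈ exch D a b) :
    m * r * m = r⁻¹ := by
  obtain ⟨d, hd, -, hco, hdr⟩ := exists_coords h hr
  obtain ⟨i, rfl⟩ := hco m hm
  have h1 : ∀ k : ℤ, d * r ^ k * d⁻¹ = r ^ (-k) := by
    intro k
    rw [← conj_zpow, inv_eq h.pt hd.1, hdr, inv_zpow']
  have h2 : r ^ i * d * (r ^ i * d) = 1 := h.pt.sq hm.1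
  calc r ^ i * d * r * (r ^ i * d)
      = r ^ i * (d * r ^ (i + 1) * d⁻¹) := by
        rw [inv_eq h.pt hd.1, zpow_add, zpow_one, (Commute.refl r).zpow_left i]
        simp only [mul_assoc]
    _ = r⁻¹ := by rw [h1, ← zpow_add, ← zpow_neg_one]; congr 1; ring

theorem rot_fixes_left (h : BW p D) {a b r x : G} (hr : IsRot D a b r) (hx : x ∈ D)
    (hxa : Commute x a) : Commute (r * x * r⁻¹) a := by
  obtain ⟨ha, hb, hab, d, hd, d', hd', hne, rfl⟩ := hr
  have h1 := exch_maps h ha hb hd' hx hxa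
  have h2 := exch_maps h hb ha (exch_symm h hd) (h.pt.conj_mem hd'.1 hx) h1
  rw [mul_inv_rev, inv_eq h.pt hd.1, inv_eq h.pt hd'.1]
  simpa only [mul_assoc] using h2

omit [Finite G] in
theorem rot_symm (h : BW p D) {a b r : G} (hr : IsRot D a b r) : IsRot D b a r := by
  obtain ⟨ha, hb, hab, d, hd, d', hd', hne, rfl⟩ := hr
  exact ⟨hb, ha, fun c => hab c.symm, d, exch_symm h hd, d', exch_symm h hd', hne, rfl⟩

theorem rot_fpf (h : BW p D) {a b r x : G} (hr : IsRot D a b r) (hx : x ∈ D)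
    (hxa : Commute x a) : ¬ Commute r x := by
  intro hc
  have hp := ne_two_of_five h
  obtain ⟨ha, hb, hab, -⟩ := id hr
  obtain ⟨d, hd, hall, -, hdr⟩ := exists_coords h hr
  have hxb : ¬ Commute x b := fun e => hab (bw_trans h ha hx hb hxa.symm e)
  have hd' := hall 1
  rw [zpow_one] at hd'
  have hn1 : ¬ Commute x d := exch_not_commute h hxb
    ⟨hd.1, exch_maps h ha hb hd hx hxa⟩
  have hn2 : ¬ Commute x (r * d) := exch_not_commute h hxb
    ⟨hd'.1, exch_maps h ha hb hd' hx hxa⟩
  have hc2 : Commute r (d * x * d) := by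
    have := (Commute.conj_iff d).mpr hc
    rw [inv_eq h.pt hd.1, hdr] at this
    simpa using this.inv_left
  have e : (r * d) * x * (r * d) = d * x * d := by
    have hinv : (r * d) = (r * d)⁻¹ := (inv_eq h.pt hd'.1).symm
    calc (r * d) * x * (r * d) = (r * d) * x * (r * d)⁻¹ := by rw [← hinv]
      _ = r * (d * x * d⁻¹) * r⁻¹ := by group
      _ = d * x * d := by rw [inv_eq h.pt hd.1, hc2.eq, mul_inv_cancel_right]
  have := (eq_mid h.pt hp hx hd'.1 hn2).trans (e ▸ (eq_mid h.pt hp hx hd.1 hn1).symm)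
  have hr1 : r = 1 := mul_eq_right.mp this
  have ho := rot_order h hr
  rw [hr1, orderOf_one] at ho
  exact (Fact.out : p.Prime).one_lt.ne ho

/-- A `p`-element fixing a member fixes its whole block. -/
theorem fix_block (h : BW p D) {g a : G} (hg : ∃ n : ℕ, g ^ p ^ n = 1) (ha : a ∈ D)
    (hga : Commute g a) {x : G} (hx : x ∈ D) (hax : Commute a x) : Commute g x := by
  by_cases hxa : x = a
  · exact hxa ▸ hga
  obtain ⟨n, hn⟩ := hg
  let f : G → G := fun c => g * c * g⁻¹
  have hit : ∀ k : ℕ, f^[k] x = g ^ k * x * (g ^ k)⁻¹ := by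
    intro k
    induction k with
    | zero => simp
    | succ k ih =>
      rw [Function.iterate_succ_apply', ih]
      show g * (g ^ k * x * (g ^ k)⁻¹) * g⁻¹ = _
      rw [pow_succ']; group
  have hper : Function.IsPeriodicPt f (p ^ n) x := by
    show f^[p ^ n] x = x
    rw [hit, hn]; simp
  obtain ⟨i, -, hi⟩ := (Nat.dvd_prime_pow Fact.out).mp hper.minimalPeriod_dvd
  rcases i with _ | i
  · have := Function.iterate_minimalPeriod (f := f) (x := x)
    rw [hi, pow_zero, Function.iterate_one] at this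
    exact mul_inv_eq_iff_eq_mul.mp this
  · exfalso
    have hle : p ≤ Function.minimalPeriod f x := by
      rw [hi]; exact Nat.le_self_pow (Nat.succ_ne_zero i) p
    have hmem : ∀ k : ℕ, f^[k] x ∈ blockOf D a \ {a} := by
      intro k
      rw [hit]
      have hga' : g ^ k * a * (g ^ k)⁻¹ = a := mul_inv_eq_iff_eq_mul.mpr (hga.pow_left k)
      refine ⟨⟨h.conjG _ hx, ?_⟩, ?_⟩
      · have := (Commute.conj_iff (g ^ k)).mpr hax
        rwa [hga'] at this
      · intro e
        rw [Set.mem_singleton_iff] at e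
        refine hxa ?_
        have := e.trans hga'.symm
        simpa using this
    have hinj : Function.Injective (fun i : Fin p => f^[(i : ℕ)] x) := fun i i' e =>
      Fin.ext (Function.iterate_injOn_Iio_minimalPeriod
        (show (i : ℕ) < Function.minimalPeriod f x by omega)
        (show (i' : ℕ) < Function.minimalPeriod f x by omega) e)
    have h1 := Set.ncard_le_ncard (s := Set.range fun i : Fin p => f^[(i : ℕ)] x)
      (by rintro _ ⟨i, rfl⟩; exact hmem i) (Set.toFinite (blockOf D a \ {a}))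
    rw [← Nat.card_coe_set_eq, Nat.card_range_of_injective hinj, Nat.card_eq_fintype_card,
      Fintype.card_fin, Set.ncard_sdiff_singleton_of_mem (show a ∈ blockOf D a from ⟨ha, Commute.refl a⟩),
      ncard_blockOf h ha] at h1
    have := (Fact.out : p.Prime).pos
    omega

/-- A `p`-element fixing two blocks is a power of their rotation. -/
theorem rot_unique (h : BW p D) {a b r g : G} (hr : IsRot D a b r)
    (hg : ∃ n : ℕ, g ^ p ^ n = 1) (hga : Commute (g * a * g⁻¹) a)
    (hgb : Commute (g * b * g⁻¹) b) : ∃ k : ℤ, g = r ^ k := by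
  obtain ⟨ha, hb, hab, -⟩ := id hr
  obtain ⟨d, hd, hall, hco, hdr⟩ := exists_coords h hr
  have hp := ne_two_of_five h
  have hrp := rot_zpow_p h hr
  have hmap : ∀ m ∈ exch D a b, g * m * g⁻¹ ∈ exch D a b := by
    intro m hm
    refine ⟨h.conjG g hm.1, ?_⟩
    have h1 : Commute (g⁻¹ * a * g) a := by
      have := (Commute.conj_iff g⁻¹).mpr hga.symm
      simpa [mul_assoc] using this
    have h2 := exch_maps h ha hb hm (by simpa using h.conjG g⁻¹ ha) h1
    have h3 := (Commute.conj_iff g).mpr h2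
    rw [show g * (m * (g⁻¹ * a * g) * m) * g⁻¹ = g * m * g⁻¹ * a * (g * m * g⁻¹) by
      simp only [mul_assoc, mul_inv_cancel, inv_mul_cancel_left]] at h3
    exact bw_trans h (h.pt.conj_mem (h.conjG g hm.1) ha) (h.conjG g hb) hb h3 hgb
  obtain ⟨j, hj⟩ := hco _ (hmap d hd)
  have hd1 := hall 1
  obtain ⟨i, hi⟩ := hco _ (hmap _ hd1)
  have hgr : g * r * g⁻¹ = r ^ (i - j) := by
    have hr1 : r = r ^ (1 : ℤ) * d * d := by rw [mul_assoc, h.pt.sq hd.1, mul_one, zpow_one]
    calc g * r * g⁻¹ = (g * (r ^ (1 : ℤ) * d) * g⁻¹) * (g * d * g⁻¹) := by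
          conv_lhs => rw [hr1]
          group
      _ = r ^ i * (d * (r ^ j * d)) := by rw [hi, hj, mul_assoc]
      _ = r ^ (i - j) := by
          rw [show d * (r ^ j * d) = r ^ (-j) by
            rw [← mul_assoc]
            conv_lhs => arg 2; rw [← inv_eq h.pt hd.1]
            rw [← conj_zpow, inv_eq h.pt hd.1, hdr, inv_zpow'],
            ← zpow_add, sub_eq_add_neg]
  obtain ⟨n, hn⟩ := hg
  have hpow : ∀ N : ℕ, g ^ N * r * (g ^ N)⁻¹ = r ^ ((i - j) ^ N) := by
    intro N
    induction N with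
    | zero => simp
    | succ N ih =>
      calc g ^ (N + 1) * r * (g ^ (N + 1))⁻¹ = g * (g ^ N * r * (g ^ N)⁻¹) * g⁻¹ := by
            rw [pow_succ']; group
        _ = r ^ ((i - j) ^ (N + 1)) := by
            rw [ih, ← conj_zpow, hgr, ← zpow_mul, ← pow_succ']
  have hcomm : Commute g r := by
    have h1 := hpow (p ^ n)
    rw [hn, one_mul, inv_one, mul_one] at h1
    conv_lhs at h1 => rw [← zpow_one r]
    have h2 : ((1 : ℤ) : ZMod p) = (((i - j) ^ p ^ n : ℤ) : ZMod p) := by
      rw [ZMod.intCast_eq_intCast_iff_dvd_sub]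
      have := orderOf_dvd_sub_iff_zpow_eq_zpow.mpr h1.symm
      rwa [rot_order h hr] at this
    push_cast at h2
    rw [ZMod.pow_card_pow] at h2
    refine mul_inv_eq_iff_eq_mul.mp (hgr.trans ?_)
    conv_rhs => rw [← zpow_one r]
    rw [← orderOf_dvd_sub_iff_zpow_eq_zpow, rot_order h hr,
      ← ZMod.intCast_zmod_eq_zero_iff_dvd]
    push_cast
    rw [← h2, sub_self]
  set m : ℤ := j * (((p + 1) / 2 : ℕ) : ℤ) with hm
  set g' := r ^ (-m) * g with hg'
  have hgd : Commute g' d := by
    refine mul_inv_eq_iff_eq_mul.mp ?_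
    calc g' * d * g'⁻¹ = r ^ (-m) * (g * d * g⁻¹) * (r ^ (-m))⁻¹ := by rw [hg']; group
      _ = r ^ (-m) * r ^ j * (d * r ^ m) := by rw [hj, ← zpow_neg, neg_neg]; simp only [mul_assoc]
      _ = r ^ (-m) * r ^ j * r ^ (-m) * d := by
          rw [show d * r ^ m = r ^ (-m) * d by
            have : d * r ^ m * d⁻¹ = r ^ (-m) := by
              rw [← conj_zpow, inv_eq h.pt hd.1, hdr, inv_zpow']
            exact mul_inv_eq_iff_eq_mul.mp this]
          simp only [mul_assoc]
      _ = d := by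
          rw [← zpow_add, ← zpow_add, show -m + j + -m = (p : ℤ) * (-j) by
            rw [hm]; have := two_mul_half (p := p) hp; linear_combination (-j) * this,
            zpow_mul, hrp, one_zpow, one_mul]
  have hg'p : g' ^ p ^ (n + 1) = 1 := by
    rw [hg', (hcomm.zpow_right (-m)).symm.mul_pow,
      show g ^ p ^ (n + 1) = 1 by rw [pow_succ, pow_mul, hn, one_pow], mul_one, ← zpow_natCast,
      ← zpow_mul, show -m * ((p ^ (n + 1) : ℕ) : ℤ) = (p : ℤ) * (-m * (p : ℤ) ^ n) by
        push_cast; ring, zpow_mul, hrp, one_zpow]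
  obtain ⟨e, he, hde, hne⟩ := exists_partner h hd.1
  have hdd1 : ¬ Commute d (r ^ (1 : ℤ) * d) := by
    refine not_commute_of_order h.pt hp hd.1 hd1.1 (exch_order h ha hb hab d hd _ hd1 ?_)
    intro e1
    have e2 : (1 : G) = r := by rw [zpow_one] at e1; exact (mul_eq_right.mp e1.symm).symm
    have := rot_order h hr
    rw [← e2, orderOf_one] at this
    exact (Fact.out : p.Prime).one_lt.ne this
  have hgrr : Commute g' r :=
    ((Commute.refl r).zpow_left (-m)).mul_left hcomm
  have := h.four hd.1 he hd1.1 hde hne hdd1 hgd (fix_block h ⟨_, hg'p⟩ hd.1 hgd he hde)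
    ((hgrr.zpow_right 1).mul_right hgd)
  refine ⟨m, ?_⟩
  calc g = r ^ m * g' := by rw [hg']; group
    _ = r ^ m := by rw [this, mul_one]

theorem mem_fixd_left (h : BW p D) {a b r : G} (hr : IsRot D a b r) {x : G} (hx : x ∈ D)
    (hxa : Commute x a) : x ∈ fixd D r :=
  ⟨hx, bw_trans h hx hr.1 (h.conjG r hx) hxa (rot_fixes_left h hr hx hxa).symm⟩

theorem fixd_saturated (h : BW p D) {r f f' : G} (hf : f ∈ fixd D r) (hf' : f' ∈ D)
    (hff : Commute f f') : f' ∈ fixd D r := by
  refine ⟨hf', ?_⟩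
  have h1 : Commute f' (r * f * r⁻¹) := bw_trans h hf' hf.1 (h.conjG r hf.1) hff.symm hf.2
  exact bw_trans h hf' (h.conjG r hf.1) (h.conjG r hf') h1 ((Commute.conj_iff r).mpr hff)

theorem rot_p_elem (h : BW p D) {a b r : G} (hr : IsRot D a b r) : ∃ n : ℕ, r ^ p ^ n = 1 :=
  ⟨1, by rw [pow_one, ← rot_order h hr]; exact pow_orderOf_eq_one r⟩

theorem rot_of_fixd (h : BW p D) {a b r f f' : G} (hr : IsRot D a b r) (hf : f ∈ fixd D r)
    (hf' : f' ∈ fixd D r) (hff : ¬ Commute f f') {r' : G} (hr' : IsRot D f f' r') :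
    (∃ k : ℤ, r = r' ^ k) ∧ (∃ k : ℤ, r' = r ^ k) := by
  obtain ⟨k, hk⟩ := rot_unique h hr' (rot_p_elem h hr) hf.2.symm hf'.2.symm
  refine ⟨⟨k, hk⟩, ?_⟩
  have hkp : ¬ (p : ℤ) ∣ k := by
    rintro ⟨c, rfl⟩
    rw [zpow_mul, rot_zpow_p h hr', one_zpow] at hk
    have ho := rot_order h hr
    rw [hk, orderOf_one] at ho
    exact (Fact.out : p.Prime).one_lt.ne ho
  obtain ⟨m, hm⟩ := exists_zpow_eq
    (show r' ^ p = 1 by rw [← rot_order h hr']; exact pow_orderOf_eq_one r') hkp
  exact ⟨m, by rw [hk]; exact hm.symm⟩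

theorem fixd_fpf (h : BW p D) {a b r f : G} (hr : IsRot D a b r) (hf : f ∈ fixd D r) :
    ¬ Commute r f := by
  obtain ⟨ha, hb, hab, -⟩ := id hr
  intro hc
  by_cases hfa : Commute f a
  · exact rot_fpf h hr hf.1 hfa hc
  · obtain ⟨r', hr'⟩ := exists_isRot h hf.1 ha hfa
    obtain ⟨-, m, hm⟩ := rot_of_fixd h hr hf (mem_fixd_left h hr ha (Commute.refl a)) hfa hr'
    exact rot_fpf h hr' hf.1 (Commute.refl f) (hm ▸ hc.zpow_left m)

/-- The members inverting `r`. -/
def inverters (D : Set G) (r : G) : Set G := {d | d ∈ D ∧ d * r * d = r⁻¹}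

theorem exch_subset_inverters (h : BW p D) {a b r f f' : G} (hr : IsRot D a b r)
    (hf : f ∈ fixd D r) (hf' : f' ∈ fixd D r) (hff : ¬ Commute f f') :
    exch D f f' ⊆ inverters D r := by
  intro m hm
  obtain ⟨r', hr'⟩ := exists_isRot h hf.1 hf'.1 hff
  obtain ⟨⟨k, hk⟩, -⟩ := rot_of_fixd h hr hf hf' hff hr'
  refine ⟨hm.1, ?_⟩
  conv_lhs => arg 2; rw [← inv_eq h.pt hm.1]
  rw [hk, ← conj_zpow, inv_eq h.pt hm.1, rot_inverted h hr' hm, inv_zpow]

omit [Fact p.Prime] [Finite G] in
theorem inverter_conj_self (h : BW p D) {r d : G} (hd : d ∈ inverters D r) :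
    r * d * r⁻¹ = r * r * d := by
  have e : d * r⁻¹ = r * d := by
    rw [← hd.2]; simp only [← mul_assoc, h.pt.sq hd.1, one_mul]
  rw [mul_assoc, e, ← mul_assoc]

theorem inverter_moves (h : BW p D) {a b r f d : G} (hr : IsRot D a b r) (hd : d ∈ inverters D r)
    (hf : f ∈ fixd D r) : d * f * d ∈ fixd D r ∧ ¬ Commute f d := by
  have hdr := hd.2
  have h0 : Commute (r⁻¹ * f * r) f := by
    have := (Commute.conj_iff r⁻¹).mpr hf.2
    simpa [mul_assoc] using this
  refine ⟨⟨h.pt.conj_mem hd.1 hf.1, ?_⟩, ?_⟩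
  · have h1 := (Commute.conj_iff d).mpr h0.symm
    rw [inv_eq h.pt hd.1] at h1
    convert h1 using 1
    have e1 : r * d = d * r⁻¹ := by
      rw [← hdr]; simp only [← mul_assoc, h.pt.sq hd.1, one_mul]
    have e2 : d * r⁻¹ = r * d := e1.symm
    calc r * (d * f * d) * r⁻¹ = (r * d) * f * (d * r⁻¹) := by simp only [mul_assoc]
      _ = (d * r⁻¹) * f * (r * d) := by rw [e1, e2]
      _ = d * (r⁻¹ * f * r) * d := by simp only [mul_assoc]
  · intro hc
    have h1 : Commute (r * f * r⁻¹) (r * d * r⁻¹) := (Commute.conj_iff r).mpr hc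
    have hD := h.conjG r hd.1
    have h2 : Commute (r * d * r⁻¹) d :=
      bw_trans h hD (h.conjG r hf.1) hd.1 h1.symm
        (bw_trans h (h.conjG r hf.1) hf.1 hd.1 hf.2.symm hc)
    rw [inverter_conj_self h hd] at h2
    have h3 : (r * r * d) * d = d * (r * r * d) := h2.eq
    rw [mul_assoc (r * r), h.pt.sq hd.1, mul_one] at h3
    have h4 : d * (r * r * d) = (d * r * d) * (d * r * d) := by
      simp only [mul_assoc]
      rw [← mul_assoc d d, h.pt.sq hd.1, one_mul]
    rw [h4, hdr] at h3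
    have h5 : r ^ 4 = 1 := by
      calc r ^ 4 = (r * r) * (r * r) := by simp only [pow_succ, pow_zero, one_mul, mul_assoc]
        _ = 1 := by nth_rw 2 [h3]; group
    have := rot_order h hr ▸ orderOf_dvd_of_pow_eq_one h5
    have := h.five
    have := Nat.le_of_dvd (by norm_num) (rot_order h hr ▸ orderOf_dvd_of_pow_eq_one h5)
    omega

theorem ncard_inverters (h : BW p D) {a b r : G} (hr : IsRot D a b r) :
    (inverters D r).ncard = (fixd D r \ blockOf D a).ncard := by
  obtain ⟨ha, hb, hab, -⟩ := id hr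
  have hp := ne_two_of_five h
  have haf := mem_fixd_left h hr ha (Commute.refl a)
  refine Set.ncard_congr (fun d _ => d * a * d) ?_ ?_ ?_
  · intro d hd
    obtain ⟨h1, h2⟩ := inverter_moves h hr hd haf
    exact ⟨h1, fun hc => not_commute_conj h.pt hp ha hd.1 h2 hc.2⟩
  · intro d d' hd hd' e
    rw [eq_mid h.pt hp ha hd.1 (inverter_moves h hr hd haf).2,
      eq_mid h.pt hp ha hd'.1 (inverter_moves h hr hd' haf).2]
    exact congrArg (mid p a) e
  · intro f hf
    have hfa : ¬ Commute a f := fun hc => hf.2 ⟨hf.1.1, hc⟩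
    refine ⟨mid p a f, exch_subset_inverters h hr haf hf.1 hfa
      ⟨mid_mem h.pt hp ha hf.1.1 hfa, ?_⟩, mid_conj_left h.pt hp ha hf.1.1 hfa⟩
    rw [mid_conj_left h.pt hp ha hf.1.1 hfa]

/-- A rotation stabilises exactly two blocks. -/
theorem fixd_eq (h : BW p D) {a b r : G} (hr : IsRot D a b r) :
    fixd D r = blockOf D a ∪ blockOf D b := by
  classical
  obtain ⟨ha, hb, hab, -⟩ := id hr
  have hp := ne_two_of_five h
  have haf := mem_fixd_left h hr ha (Commute.refl a)
  have hbf := mem_fixd_left h (rot_symm h hr) hb (Commute.refl b)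
  have hsub : blockOf D a ∪ blockOf D b ⊆ fixd D r := by
    rintro x (hx | hx)
    · exact fixd_saturated h haf hx.1 hx.2
    · exact fixd_saturated h hbf hx.1 hx.2
  have hdis : Disjoint (blockOf D a) (blockOf D b) := Set.disjoint_left.mpr
    fun x hx hx' => hab (bw_trans h ha hx.1 hb hx.2 hx'.2.symm)
  have hinv : IsPT p (inverters D r) :=
    { sq := fun hd => h.pt.sq hd.1
      ne_one := fun hd => h.pt.ne_one hd.1
      comm_or := fun hu hv => h.pt.comm_or hu.1 hv.1
      conj_mem := fun {u v} hu hv => ⟨h.pt.conj_mem hu.1 hv.1, by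
        have e : ∀ w : G, w ∈ inverters D r → w * r⁻¹ * w = r := by
          intro w hw
          have := congrArg Inv.inv hw.2
          rwa [inv_inv, mul_inv_rev, mul_inv_rev, inv_eq h.pt hw.1, ← mul_assoc] at this
        calc u * v * u * r * (u * v * u) = u * (v * (u * r * u) * v) * u := by
              simp only [mul_assoc]
          _ = r⁻¹ := by rw [hu.2, e v hv, hu.2]⟩ }
  have hord : ∀ u ∈ inverters D r, ∀ v ∈ inverters D r, u ≠ v → orderOf (u * v) = p := by
    intro u hu v hv hne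
    refine (h.pt.comm_or hu.1 hv.1).resolve_left fun hc => ?_
    have he := h.mul hu.1 hv.1 hc hne
    have hcr : Commute (u * v) r := by
      refine commute_of_conj_eq (sq_mul_of_commute h.pt hu.1 hv.1 hc) ?_
      calc u * v * r * (u * v) = u * v * r * (v * u) := by rw [hc.eq]
        _ = u * (v * r * v) * u := by simp only [mul_assoc]
        _ = r := by
          rw [hv.2]
          have := congrArg Inv.inv hu.2
          rwa [inv_inv, mul_inv_rev, mul_inv_rev, inv_eq h.pt hu.1, ← mul_assoc] at this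
    refine fixd_fpf h hr ⟨he, ?_⟩ hcr.symm
    rw [← hcr.eq, mul_inv_cancel_right]
  have hM : exch D a b ⊆ inverters D r := exch_subset_inverters h hr haf hbf hab
  have hMcard := ncard_exch' h ha hb hab
  obtain ⟨s, hs⟩ := ncard_prime_pow hinv hp
    ((Set.nonempty_of_ncard_ne_zero
      (by rw [hMcard]; exact (Fact.out : p.Prime).ne_zero)).mono hM) hord
  have hsize : (fixd D r).ncard = p + p ^ s := by
    have hsa : blockOf D a ⊆ fixd D r := Set.subset_union_left.trans hsub
    rw [← Set.ncard_sdiff_add_ncard_of_subset hsa, ← ncard_inverters h hr, hs, ncard_blockOf h ha,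
      add_comm]
  have hs1 : 1 ≤ s := by
    have := Set.ncard_le_ncard hM (Set.toFinite _)
    rw [hMcard, hs] at this
    by_contra h0
    rw [show s = 0 by omega, pow_zero] at this
    exact absurd (Fact.out : p.Prime).one_lt (by omega)
  rcases Nat.lt_or_ge s 2 with hs2 | hs2
  · symm
    refine Set.eq_of_subset_of_ncard_le hsub ?_ (Set.toFinite _)
    rw [hsize, show s = 1 by omega, pow_one, Set.ncard_union_eq hdis, ncard_blockOf h ha,
      ncard_blockOf h hb]
  exfalso
  obtain ⟨d, hd, hdM⟩ : ∃ d ∈ inverters D r, d ∉ exch D a b := by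
    by_contra! hall
    have := Set.ncard_le_ncard (show inverters D r ⊆ exch D a b from hall) (Set.toFinite _)
    rw [hs, hMcard] at this
    have h1 : p ^ 1 < p ^ s := Nat.pow_lt_pow_right (Fact.out : p.Prime).one_lt hs2
    rw [pow_one] at h1
    omega
  obtain ⟨d0, hd0M⟩ : (exch D a b).Nonempty :=
    Set.nonempty_of_ncard_ne_zero (by rw [hMcard]; exact (Fact.out : p.Prime).ne_zero)
  have hd0 := hM hd0M
  set g := d * d0 with hg
  have hgp : g ^ p = 1 := by
    rw [hg, ← hord d hd d0 hd0 (fun e => hdM (e ▸ hd0M))]; exact pow_orderOf_eq_one _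
  have hgr : Commute g r := by
    have e := congrArg Inv.inv hd.2
    rw [inv_inv, mul_inv_rev, mul_inv_rev, inv_eq h.pt hd.1, ← mul_assoc] at e
    refine mul_inv_eq_iff_eq_mul.mp ?_
    calc g * r * g⁻¹ = d * (d0 * r * d0) * d := by
          rw [hg, mul_inv_rev, inv_eq h.pt hd.1, inv_eq h.pt hd0.1]; simp only [mul_assoc]
      _ = r := by rw [hd0.2, e]
  have hgmap : ∀ f ∈ fixd D r, g * f * g⁻¹ ∈ fixd D r := fun f hf =>
    ⟨h.conjG g hf.1, by
      have := (Commute.conj_iff g).mpr hf.2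
      convert this using 1
      calc r * (g * f * g⁻¹) * r⁻¹ = (r * g) * f * (r * g)⁻¹ := by group
        _ = (g * r) * f * (g * r)⁻¹ := by rw [hgr.eq]
        _ = g * (r * f * r⁻¹) * g⁻¹ := by group⟩
  have hnofix : ∀ f ∈ fixd D r, ¬ Commute f (g * f * g⁻¹) := by
    intro f hf hc
    obtain ⟨hf', hnf⟩ := inverter_moves h hr hd0 hf
    set f' := d0 * f * d0 with hf'def
    have hff : ¬ Commute f f' := not_commute_conj h.pt hp hf.1 hd0.1 hnf
    have h1 : Commute (d * f * d) f' := by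
      have := (Commute.conj_iff d).mpr hc
      rw [inv_eq h.pt hd.1] at this
      convert this using 1
      rw [hg, hf'def, mul_inv_rev, inv_eq h.pt hd.1, inv_eq h.pt hd0.1]
      simp only [← mul_assoc, h.pt.sq hd.1, one_mul]
      rw [mul_assoc _ d d, h.pt.sq hd.1, mul_one]
    obtain ⟨r', hr'⟩ := exists_isRot h hf.1 hf'.1 hff
    obtain ⟨k, hk⟩ := rot_coset h hr' (⟨hd0.1, Commute.refl f'⟩ : d0 ∈ exch D f f') ⟨hd.1, h1⟩
    obtain ⟨-, m, hm⟩ := rot_of_fixd h hr hf hf' hff hr'
    obtain ⟨d1, -, hall, hco, -⟩ := exists_coords h hr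
    obtain ⟨i, hi⟩ := hco d0 hd0M
    refine hdM ?_
    rw [hk, hm, ← zpow_mul, hi, ← mul_assoc, ← zpow_add]
    exact hall _
  -- the blocks in `fixd D r`
  let Bl : Finset (Set G) := (fixd D r).toFinite.toFinset.image (blockOf D)
  have hcardΩ : (fixd D r).ncard = Bl.card * p := by
    rw [Set.ncard_eq_toFinset_card _ (fixd D r).toFinite,
      Finset.card_eq_sum_card_image (blockOf D), Finset.sum_const_nat]
    intro B hB
    obtain ⟨c, hc, rfl⟩ := Finset.mem_image.mp hB
    rw [Set.Finite.mem_toFinset] at hc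
    rw [← ncard_blockOf h hc.1, Set.ncard_eq_toFinset_card _ (Set.toFinite _)]
    congr 1
    ext f
    simp only [Finset.mem_filter, Set.Finite.mem_toFinset]
    constructor
    · rintro ⟨hf, e⟩
      rw [← e]; exact ⟨hf.1, Commute.refl f⟩
    · intro hf
      exact ⟨fixd_saturated h hc hf.1 hf.2, blockOf_eq h hc.1 hf.1 hf.2⟩
  have himg : ∀ c ∈ D, (fun x => g * x * g⁻¹) '' blockOf D c = blockOf D (g * c * g⁻¹) := by
    intro c hc
    ext x
    constructor
    · rintro ⟨y, hy, rfl⟩
      exact ⟨h.conjG g hy.1, (Commute.conj_iff g).mpr hy.2⟩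
    · intro hx
      refine ⟨g⁻¹ * x * g, ⟨by simpa using h.conjG g⁻¹ hx.1, ?_⟩, by group⟩
      have := (Commute.conj_iff g⁻¹).mpr hx.2
      simpa [mul_assoc] using this
  let φ : Function.End {B // B ∈ Bl} := fun B =>
    ⟨(fun x => g * x * g⁻¹) '' B.1, by
      obtain ⟨c, hc, e⟩ := Finset.mem_image.mp B.2
      rw [Set.Finite.mem_toFinset] at hc
      refine Finset.mem_image.mpr ⟨g * c * g⁻¹, (Set.Finite.mem_toFinset _).mpr (hgmap c hc), ?_⟩
      rw [← e, himg c hc.1]⟩
  have hφ : ∀ (k : ℕ) (B : {B // B ∈ Bl}),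
      ((φ ^ k) B).1 = (fun x => g ^ k * x * (g ^ k)⁻¹) '' B.1 := by
    intro k
    induction k with
    | zero => intro B; simp only [pow_zero, one_mul, inv_one, mul_one, Set.image_id']; rfl
    | succ k ih =>
      intro B
      rw [pow_succ']
      show (fun x => g * x * g⁻¹) '' ((φ ^ k) B).1 = _
      rw [ih, Set.image_image]
      congr 1
      funext x
      rw [pow_succ']; group
  have hdvd : p ∣ Bl.card := by
    have hφp : φ ^ p ^ 1 = 1 := by
      funext B
      refine Subtype.ext ?_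
      rw [hφ, pow_one, hgp]
      simp only [one_mul, inv_one, mul_one, Set.image_id']
      rfl
    have := Equiv.Perm.card_fixedPoints_modEq hφp
    have h0 : Fintype.card (Function.fixedPoints φ) = 0 := by
      rw [Fintype.card_eq_zero_iff]
      refine ⟨fun ⟨B, hB⟩ => ?_⟩
      obtain ⟨c, hc, e⟩ := Finset.mem_image.mp B.2
      rw [Set.Finite.mem_toFinset] at hc
      have h2 : (fun x => g * x * g⁻¹) '' B.1 = B.1 := congrArg Subtype.val hB
      rw [← e, himg c hc.1] at h2
      have h3 : g * c * g⁻¹ ∈ blockOf D c := h2 ▸ ⟨h.conjG g hc.1, Commute.refl _⟩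
      exact hnofix c hc h3.2
    rw [h0, Fintype.card_coe] at this
    exact Nat.modEq_zero_iff_dvd.mp this
  obtain ⟨c, hc⟩ := hdvd
  rw [hsize, hc, show s = (s - 2) + 2 by omega, pow_add] at hcardΩ
  have hpp := (Fact.out : p.Prime).pos
  have h1 : 1 + p * p ^ (s - 2) = p * c := by
    have : p * (1 + p * p ^ (s - 2)) = p * (p * c) := by
      linear_combination hcardΩ
    exact Nat.eq_of_mul_eq_mul_left hpp this
  have h2 : p ∣ 1 := (Nat.dvd_add_left (dvd_mul_right p (p ^ (s - 2)))).mp ⟨c, h1⟩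
  exact (Fact.out : p.Prime).one_lt.ne' (Nat.dvd_one.mp h2)

/-- A `p`-element centralising a rotation is a power of it. -/
theorem rot_centralizer (h : BW p D) {a b r g : G} (hr : IsRot D a b r)
    (hg : ∃ n : ℕ, g ^ p ^ n = 1) (hgr : Commute g r) : ∃ k : ℤ, g = r ^ k := by
  obtain ⟨ha, hb, hab, -⟩ := id hr
  have hmap : ∀ u : G, Commute u r → ∀ x ∈ fixd D r,
      Commute (u * x * u⁻¹) a ∨ Commute (u * x * u⁻¹) b := by
    intro u hu x hx
    have h1 : u * x * u⁻¹ ∈ fixd D r := ⟨h.conjG u hx.1, by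
      have := (Commute.conj_iff u).mpr hx.2
      convert this using 1
      calc r * (u * x * u⁻¹) * r⁻¹ = (r * u) * x * (r * u)⁻¹ := by group
        _ = (u * r) * x * (u * r)⁻¹ := by rw [hu.eq]
        _ = u * (r * x * r⁻¹) * u⁻¹ := by group⟩
    rw [fixd_eq h hr] at h1
    exact h1.imp (fun e => e.2.symm) (fun e => e.2.symm)
  have haf := mem_fixd_left h hr ha (Commute.refl a)
  have hbf := mem_fixd_left h (rot_symm h hr) hb (Commute.refl b)
  have hga := h.conjG g ha
  have hgb := h.conjG g hb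
  have hne : ¬ Commute (g * a * g⁻¹) (g * b * g⁻¹) := fun c => hab ((Commute.conj_iff g).mp c)
  rcases hmap g hgr a haf with h1 | h1
  · refine rot_unique h hr hg h1 ((hmap g hgr b hbf).resolve_left fun h2 => ?_)
    exact hne (bw_trans h hga ha hgb h1 h2.symm)
  · have h2 : Commute (g * b * g⁻¹) a := (hmap g hgr b hbf).resolve_right fun h2 =>
      hne (bw_trans h hga hb hgb h1 h2.symm)
    obtain ⟨n, hn⟩ := hg
    have ha2 : Commute (g * g * a * (g * g)⁻¹) a := by
      have h3 := (Commute.conj_iff g).mpr h1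
      have := bw_trans h (h.conjG g hga) hgb ha h3 h2
      convert this using 1
      group
    have hb2 : Commute (g * g * b * (g * g)⁻¹) b := by
      have h3 := (Commute.conj_iff g).mpr h2
      have := bw_trans h (h.conjG g hgb) hga hb h3 h1
      convert this using 1
      group
    have hn' : (g * g) ^ p ^ n = 1 := by rw [(Commute.refl g).mul_pow, hn, one_mul]
    obtain ⟨k, hk⟩ := rot_unique h hr ⟨n, hn'⟩ ha2 hb2
    obtain ⟨m, hm⟩ := ((Fact.out : p.Prime).odd_of_ne_two (ne_two_of_five h)).pow (n := n)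
    refine ⟨k * ((m : ℤ) + 1), ?_⟩
    rw [zpow_mul, ← hk, show (m : ℤ) + 1 = ((m + 1 : ℕ) : ℤ) by push_cast; ring, zpow_natCast,
      ← pow_two, ← pow_mul, show 2 * (m + 1) = p ^ n + 1 by omega, pow_succ, hn, one_mul]

/-- Every element of order `p` stabilises some block. -/
theorem exists_fixed_block (h : BW p D) {σ : G} (hσ : orderOf σ = p) :
    ∃ f ∈ D, Commute f (σ * f * σ⁻¹) := by
  obtain ⟨a, ha, b, hb, hab⟩ := h.nc
  obtain ⟨r, hr⟩ := exists_isRot h ha hb hab
  have hrP : IsPGroup p (Subgroup.zpowers r) :=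
    IsPGroup.of_card (n := 1) (by rw [Nat.card_zpowers, rot_order h hr, pow_one])
  obtain ⟨P, hP⟩ := hrP.exists_le_sylow
  have hrPmem : r ∈ P := hP (Subgroup.mem_zpowers r)
  have hle : ∀ u ∈ (P : Subgroup G), ∃ k : ℤ, u = r ^ k := by
    haveI : Nontrivial (P : Subgroup G) := by
      refine ⟨⟨r, hrPmem⟩, 1, fun e => ?_⟩
      have ho := rot_order h hr
      rw [show r = 1 from congrArg Subtype.val e, orderOf_one] at ho
      exact (Fact.out : p.Prime).one_lt.ne ho
    haveI := P.2.center_nontrivial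
    obtain ⟨c, hc⟩ := exists_ne (1 : Subgroup.center (P : Subgroup G))
    have hcom : ∀ u ∈ (P : Subgroup G), Commute ((c : (P : Subgroup G)) : G) u := fun u hu =>
      (congrArg Subtype.val (Subgroup.mem_center_iff.mp c.2 ⟨u, hu⟩)).symm
    have hpel : ∀ u ∈ (P : Subgroup G), ∃ n : ℕ, u ^ p ^ n = 1 := fun u hu => by
      obtain ⟨n, hn⟩ := P.2 ⟨u, hu⟩
      exact ⟨n, congrArg Subtype.val hn⟩
    obtain ⟨k, hk⟩ := rot_centralizer h hr (hpel _ (c : (P : Subgroup G)).2) (hcom r hrPmem)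
    have hkp : ¬ (p : ℤ) ∣ k := by
      rintro ⟨c', rfl⟩
      rw [zpow_mul, rot_zpow_p h hr, one_zpow] at hk
      exact hc (Subtype.ext (Subtype.ext hk))
    obtain ⟨m, hm⟩ := exists_zpow_eq
      (show r ^ p = 1 by rw [← rot_order h hr]; exact pow_orderOf_eq_one r) hkp
    intro u hu
    refine rot_centralizer h hr (hpel u hu) ?_
    rw [← hm, ← hk]
    exact ((hcom u hu).zpow_left m).symm
  obtain ⟨Q, hQ⟩ := (IsPGroup.of_card (n := 1)
    (show Nat.card (Subgroup.zpowers σ) = p ^ 1 by rw [Nat.card_zpowers, hσ, pow_one])).exists_le_sylow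
  obtain ⟨g, hg⟩ := MulAction.exists_smul_eq G Q P
  have hmem : g * σ * g⁻¹ ∈ (P : Subgroup G) := by
    rw [← hg]
    show g * σ * g⁻¹ ∈ ((g • Q : Sylow p G) : Subgroup G)
    rw [Sylow.coe_subgroup_smul]
    exact Subgroup.smul_mem_pointwise_smul σ (MulAut.conj g) _ (hQ (Subgroup.mem_zpowers σ))
  obtain ⟨k, hk⟩ := hle _ hmem
  have hka : Commute (r ^ k * a * (r ^ k)⁻¹) a := by
    induction k using Int.induction_on generalizing σ g with
    | zero => simp
    | succ i _ =>
      clear hk hmem hg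
      rw [show ((i : ℤ) + 1) = ((i + 1 : ℕ) : ℤ) by push_cast; ring, zpow_natCast]
      clear * - h hr ha
      induction (i + 1) with
      | zero => simp
      | succ n ih =>
        have := rot_fixes_left h hr (h.conjG (r ^ n) ha) ih
        convert this using 1
        rw [pow_succ']; group
    | pred i _ =>
      clear hk hmem hg
      clear * - h hr ha
      generalize hn : ((-(i : ℤ) - 1) % (p : ℤ)).toNat = n
      have e : r ^ (-(i : ℤ) - 1) = r ^ n := by
        rw [← zpow_natCast, ← hn, Int.toNat_of_nonneg (Int.emod_nonneg _ (by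
          exact_mod_cast (Fact.out : p.Prime).ne_zero)), ← rot_order h hr, zpow_mod_orderOf]
      rw [e]
      clear e hn
      induction n with
      | zero => simp
      | succ n ih =>
        have := rot_fixes_left h hr (h.conjG (r ^ n) ha) ih
        convert this using 1
        rw [pow_succ']; group
  rw [← hk] at hka
  refine ⟨g⁻¹ * a * g, by simpa using h.conjG g⁻¹ ha, ?_⟩
  have := (Commute.conj_iff g⁻¹).mpr hka.symm
  simp only [inv_inv] at this
  convert this using 1
  group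

/-- No such configuration. -/
theorem bw_false (h : BW p D) : False := by
  classical
  have hp := ne_two_of_five h
  obtain ⟨x, hx, y0, hy0, hxy0⟩ := h.nc
  let B : Finset G := (Set.toFinite {y : G | y ∈ D ∧ ¬ Commute x y}).toFinset
  have hB : ∀ {u}, u ∈ B ↔ u ∈ D ∧ ¬ Commute x u := fun {u} => Set.Finite.mem_toFinset _
  let R : G → G → Prop := fun y f => Commute f ((x * y) * f * (x * y)⁻¹)
  have hlow : ∀ y ∈ B, p ≤ (B.bipartiteAbove R y).card := by
    intro y hy
    rw [hB] at hy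
    obtain ⟨f, hf, hff⟩ := exists_fixed_block h (order_of_nc h.pt hx hy.1 hy.2)
    have hσx : (x * y) * x * (x * y)⁻¹ = (x * y) * (x * y) * x := by
      rw [mul_inv_rev, inv_eq h.pt hx, inv_eq h.pt hy.1]; simp only [mul_assoc]
    have hsat : ∀ c ∈ blockOf D f, c ∈ B ∧ R y c := by
      intro c hc
      have hcf : Commute c ((x * y) * c * (x * y)⁻¹) :=
        (fixd_saturated h (r := x * y) ⟨hf, hff⟩ hc.1 hc.2).2
      refine ⟨hB.mpr ⟨hc.1, fun hxc => ?_⟩, hcf⟩
      have h1 := (Commute.conj_iff (x * y)).mpr hxc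
      have hD := h.conjG (x * y) hx
      have h2 : Commute ((x * y) * x * (x * y)⁻¹) x :=
        bw_trans h hD (h.conjG (x * y) hc.1) hx h1
          (bw_trans h (h.conjG (x * y) hc.1) hc.1 hx hcf.symm hxc.symm)
      refine not_commute_of_order h.pt hp hD hx ?_ h2
      rw [hσx, mul_assoc, h.pt.sq hx, mul_one, ← pow_two,
        Nat.Coprime.orderOf_pow (by
          rw [order_of_nc h.pt hx hy.1 hy.2]
          exact (Nat.coprime_primes Fact.out Nat.prime_two).mpr hp)]
      exact order_of_nc h.pt hx hy.1 hy.2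
    calc p = (Set.toFinite (blockOf D f)).toFinset.card := by
          rw [← Set.ncard_eq_toFinset_card, ncard_blockOf h hf]
      _ ≤ _ := Finset.card_le_card fun c hc => by
          rw [Set.Finite.mem_toFinset] at hc
          exact (Finset.mem_bipartiteAbove R).mpr (hsat c hc)
  have hhigh : ∀ f ∈ B, (B.bipartiteBelow R f).card ≤ p - 1 := by
    intro f hf
    rw [hB] at hf
    have hfx : ¬ Commute f (x * f * x) := not_commute_conj h.pt hp hf.1 hx fun c => hf.2 c.symm
    have hmem : x * f * x ∈ D := h.pt.conj_mem hx hf.1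
    have hxM : x ∈ exch D f (x * f * x) := ⟨hx, Commute.refl _⟩
    have hsub : B.bipartiteBelow R f ⊆
        (Set.toFinite (exch D f (x * f * x) \ {x})).toFinset := by
      intro y hy
      rw [Finset.mem_bipartiteBelow] at hy
      obtain ⟨hyB, hyR⟩ := hy
      rw [hB] at hyB
      rw [Set.Finite.mem_toFinset]
      refine ⟨⟨hyB.1, ?_⟩, fun e => hyB.2 (by rw [Set.mem_singleton_iff] at e; exact e ▸ Commute.refl x)⟩
      have h1 := (Commute.conj_iff x).mpr hyR
      rw [inv_eq h.pt hx] at h1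
      convert h1.symm using 1
      rw [mul_inv_rev, inv_eq h.pt hx, inv_eq h.pt hyB.1]
      simp only [← mul_assoc, h.pt.sq hx, one_mul]
      rw [mul_assoc _ x x, h.pt.sq hx, mul_one]
    calc _ ≤ _ := Finset.card_le_card hsub
      _ = p - 1 := by
        rw [← Set.ncard_eq_toFinset_card, Set.ncard_sdiff_singleton_of_mem hxM,
          ncard_exch' h hf.1 hmem hfx]
  have hcount := Finset.card_mul_le_card_mul R hlow hhigh
  have hpos : 0 < B.card := Finset.card_pos.mpr ⟨y0, hB.mpr ⟨hy0, hxy0⟩⟩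
  have := Nat.le_of_mul_le_mul_left hcount hpos
  have := (Fact.out : p.Prime).pos
  omega

end Cfsg.Agent.Lib.PTransp90
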