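import Cfsg.Agent.Lib.PTransp90.NoPath

/-!
The commuting graph on the members: closure properties of its components, and disconnectedness.
-/

set_option autoImplicit false

namespace Cfsg.Agent.Lib.PTransp90

variable {G : Type*} [Group G]

/-- Commuting members. -/
def Adj (D : Set G) (a b : G) : Prop := a ∈ D ∧ b ∈ D ∧ Commute a b

/-- Same component of the commuting graph. -/
def Reach (D : Set G) (a b : G) : Prop := Relation.ReflTransGen (Adj D) a b

theorem Reach.refl' {D : Set G} (a : G) : Reach D a a := Relation.ReflTransGen.refl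

theorem Reach.single' {D : Set G} {a b : G} (ha : a ∈ D) (hb : b ∈ D) (hab : Commute a b) :
    Reach D a b := Relation.ReflTransGen.single ⟨ha, hb, hab⟩

theorem Reach.trans' {D : Set G} {a b c : G} (h1 : Reach D a b) (h2 : Reach D b c) :
    Reach D a c := Relation.ReflTransGen.trans h1 h2

theorem Reach.symm' {D : Set G} {a b : G} (h1 : Reach D a b) : Reach D b a := by
  induction h1 with
  | refl => exact Relation.ReflTransGen.refl
  | tail _ e ih => exact Relation.ReflTransGen.head ⟨e.2.1, e.1, e.2.2.symm⟩ ih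

theorem Reach.mem {D : Set G} {a b : G} (ha : a ∈ D) (h1 : Reach D a b) : b ∈ D := by
  induction h1 with
  | refl => exact ha
  | tail _ e _ => exact e.2.1

theorem Reach.conj {D : Set G} {a b g : G} (hg : ∀ d ∈ D, g * d * g⁻¹ ∈ D) (h1 : Reach D a b) :
    Reach D (g * a * g⁻¹) (g * b * g⁻¹) :=
  Relation.ReflTransGen.lift (fun c => g * c * g⁻¹)
    (fun c c' e => ⟨hg c e.1, hg c' e.2.1, (Commute.conj_iff g).mpr e.2.2⟩) _ _ h1

theorem conj_mem_of_gen [Finite G] {D : Set G} (hinv : ∀ d ∈ D, d⁻¹ = d)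
    (hgen : Subgroup.closure D = ⊤) {S : Set G} (hS : ∀ d ∈ D, ∀ b ∈ S, d * b * d⁻¹ ∈ S)
    (g : G) {b : G} (hb : b ∈ S) : g * b * g⁻¹ ∈ S := by
  have hg : g ∈ Subgroup.closure D := hgen ▸ Subgroup.mem_top g
  induction hg using Subgroup.closure_induction'' generalizing b with
  | mem x hx => exact hS x hx b hb
  | inv_mem x hx => rw [hinv x hx]; exact hS x hx b hb
  | one => simpa using hb
  | mul x y _ _ ihx ihy =>
    have := ihx (ihy hb)
    rwa [show x * (y * b * y⁻¹) * x⁻¹ = x * y * b * (x * y)⁻¹ by group] at this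

variable {p : ℕ} [Fact p.Prime] {D : Set G}

theorem conj_mem' (h : IsPT p D) {d : G} (hd : d ∈ D) : ∀ e ∈ D, d * e * d⁻¹ ∈ D :=
  fun e he => by rw [inv_eq h hd]; exact h.conj_mem hd he

theorem reach_conj (h : IsPT p D) {a d : G} (ha : a ∈ D) (hd : d ∈ D) (had : Reach D a d) :
    Reach D a (d * a * d) := by
  have h1 := (had.symm').conj (conj_mem' h hd)
  rw [inv_eq h hd, h.sq hd, one_mul] at h1
  exact had.trans' h1

/-- The members of a component form again such a set. -/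
theorem isPT_component (h : IsPT p D) {a : G} (ha : a ∈ D) :
    IsPT p {b | b ∈ D ∧ Reach D a b} where
  sq hd := h.sq hd.1
  ne_one hd := h.ne_one hd.1
  conj_mem {r s} hr hs := ⟨h.conj_mem hr.1 hs.1,
    hs.2.trans' (reach_conj h hs.1 hr.1 (hs.2.symm'.trans' hr.2))⟩
  comm_or hr hs := h.comm_or hr.1 hs.1

theorem reach_of_conj (h : IsPT p D) (hp : p ≠ 2) {a d : G} (ha : a ∈ D) (hd : d ∈ D)
    (h1 : Reach D a (d * a * d)) : Reach D a d := by
  by_cases hc : Commute a d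
  · exact Reach.single' ha hd hc
  · rw [eq_mid h hp ha hd hc]
    exact (mid_mem (isPT_component h ha) hp ⟨ha, Reach.refl' a⟩ ⟨h.conj_mem hd ha, h1⟩
      (not_commute_conj h hp ha hd hc)).2

/-- Non-commuting members both commuting with `z`. -/
private def NAdj (D : Set G) (z a b : G) : Prop :=
  a ∈ D ∧ b ∈ D ∧ Commute z a ∧ Commute z b ∧ ¬ Commute a b

theorem exists_not_reach [Finite G] (h : IsPT p D) (hp5 : 5 ≤ p) (hCB : CB D)
    (hgen : Subgroup.closure D = ⊤) (hclass : ∀ a ∈ D, ∀ b ∈ D, IsConj a b)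
    (hnc : ∃ a ∈ D, ∃ b ∈ D, ¬ Commute a b) {a : G} (ha : a ∈ D) :
    ∃ b ∈ D, ¬ Reach D a b := by
  classical
  have hD : ∀ g : G, ∀ d ∈ D, g * d * g⁻¹ ∈ D := fun g d hd =>
    conj_mem_of_gen (fun e he => inv_eq h he) hgen (fun e he => conj_mem' h he) g hd
  suffices hX : ∃ X : Set G, (∃ r ∈ D, r ∈ X) ∧ (∃ b ∈ D, b ∉ X) ∧
      ∀ r ∈ D, ∀ n ∈ D, r ∈ X → Commute r n → n ∈ X by
    obtain ⟨X, ⟨r, hr, hrX⟩, ⟨b, hb, hbX⟩, hcl⟩ := hX
    have hnr : ¬ Reach D r b := by
      intro hrb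
      refine hbX ?_
      clear hb hbX
      induction hrb with
      | refl => exact hrX
      | tail _ e ih => exact hcl _ e.1 _ e.2.1 ih e.2.2
    obtain ⟨g, rfl⟩ := isConj_iff.mp (hclass r hr a ha)
    refine ⟨g * b * g⁻¹, hD g b hb, fun hc => hnr ?_⟩
    have := hc.conj (g := g⁻¹) (hD g⁻¹)
    simpa [mul_assoc] using this
  by_cases hpair : ∀ x ∈ D, ∀ y ∈ D, ∀ z ∈ D, Commute z x → Commute z y → Commute x y
  · obtain ⟨a0, ha0, b0, hb0, hab⟩ := hnc
    exact ⟨{c | Commute a0 c}, ⟨a0, ha0, Commute.refl a0⟩, ⟨b0, hb0, hab⟩,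
      fun r hr n hn hr0 hrn => hpair a0 ha0 n hn r hr hr0.symm hrn⟩
  push_neg at hpair
  obtain ⟨x1, hx1, y1, hy1, z1, hz1, hzx1, hzy1, hxy1⟩ := hpair
  let T := {q : G × G // q.1 ∈ D ∧ ∃ c, NAdj D q.1 q.2 c}
  haveI : Nonempty T := ⟨⟨(z1, x1), hz1, y1, hx1, hy1, hzx1, hzy1, hxy1⟩⟩
  let Γ : G × G → Set G := fun q => {b | Relation.ReflTransGen (NAdj D q.1) q.2 b}
  obtain ⟨⟨⟨z, a0⟩, hz, c0, he0⟩, hmax⟩ := Finite.exists_max (fun q : T => (Γ q.1).ncard)
  simp only at hz hmax he0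
  set Γ₀ := Γ (z, a0) with hΓ₀
  have hmem : ∀ b ∈ Γ₀, b ∈ D ∧ Commute z b := by
    intro b hb
    induction hb with
    | refl => exact ⟨he0.1, he0.2.2.1⟩
    | tail _ e _ => exact ⟨e.2.1, e.2.2.2.1⟩
  have hzΓ : z ∉ Γ₀ := by
    intro hzm
    rcases Relation.ReflTransGen.cases_tail hzm with e | ⟨c, -, e⟩
    · change z = a0 at e
      exact he0.2.2.2.2 (e ▸ he0.2.2.2.1)
    · exact e.2.2.2.2 e.2.2.1.symm
  have hhom : ∀ w ∈ D, w ∉ Γ₀ → ∀ b ∈ Γ₀, Commute w b → ∀ b' ∈ Γ₀, Commute w b' := by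
    intro w hw hwΓ
    by_cases hwz : Commute z w
    · intro b hb _ b' hb'
      by_contra hc
      exact hwΓ (Relation.ReflTransGen.tail hb'
        ⟨(hmem b' hb').1, hw, (hmem b' hb').2, hwz, fun c => hc c.symm⟩)
    · have key : ∀ b ∈ Γ₀, (Commute w a0 ↔ Commute w b) := by
        intro b hb
        induction hb with
        | refl => rfl
        | @tail c c' _ e ih =>
          refine ih.trans ⟨fun hc => ?_, fun hc => ?_⟩
          · by_contra hc'
            exact no_path h hp5 hCB e.1 e.2.1 hz hw e.2.2.1 e.2.2.2.1 e.2.2.2.2 hc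
              (fun c => hwz c.symm) hc'
          · by_contra hc'
            exact no_path h hp5 hCB e.2.1 e.1 hz hw e.2.2.2.1 e.2.2.1 (fun c => e.2.2.2.2 c.symm) hc
              (fun c => hwz c.symm) hc'
      exact fun b hb hwb b' hb' => (key b' hb').mp ((key b hb).mpr hwb)
  have ha0Γ : a0 ∈ Γ₀ := Relation.ReflTransGen.refl
  refine ⟨{c | c ∈ Γ₀ ∨ ∀ b ∈ Γ₀, Commute c b}, ⟨a0, he0.1, Or.inl ha0Γ⟩, ?_, ?_⟩
  · by_contra hall
    push_neg at hall
    have hstab : ∀ d ∈ D, ∀ b ∈ Γ₀, d * b * d⁻¹ ∈ Γ₀ := by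
      intro d hd b hb
      rw [inv_eq h hd]
      rcases hall d hd with hdΓ | hdC
      · rcases hall _ (h.conj_mem hd (hmem b hb).1) with hc | hc
        · exact hc
        · have h2 := (Commute.conj_iff d).mpr (hc d hdΓ)
          rw [inv_eq h hd, conj_conj (h.sq hd), h.sq hd, one_mul] at h2
          rwa [conj_eq_of_commute (h.sq hd) h2.symm]
      · rwa [conj_eq_of_commute (h.sq hd) (hdC b hb)]
    obtain ⟨g, hg⟩ := isConj_iff.mp (hclass a0 he0.1 z hz)
    exact hzΓ (hg ▸ conj_mem_of_gen (fun e he => inv_eq h he) hgen hstab g ha0Γ)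
  · intro r hr n hn hrX hrn
    by_contra hnX
    simp only [Set.mem_ofPred_eq, not_or, not_forall] at hnX
    obtain ⟨hnΓ, b1, hb1, hnb1⟩ := hnX
    have hnone : ∀ b ∈ Γ₀, ¬ Commute n b := fun b hb hc => hnb1 (hhom n hn hnΓ b hb hc b1 hb1)
    rcases hrX with hrΓ | hrC
    · exact hnone r hrΓ hrn.symm
    · have he : NAdj D r a0 n := ⟨he0.1, hn, hrC a0 ha0Γ, hrn, fun c => hnone a0 ha0Γ c.symm⟩
      have hsub : insert n Γ₀ ⊆ Γ (r, a0) := by
        rintro b (rfl | hb)
        · exact Relation.ReflTransGen.single he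
        · have : b ∈ Γ₀ ∧ b ∈ Γ (r, a0) := by
            induction hb with
            | refl => exact ⟨ha0Γ, Relation.ReflTransGen.refl⟩
            | @tail c c' hc e ih =>
              have hc' : c' ∈ Γ₀ := Relation.ReflTransGen.tail hc e
              exact ⟨hc', Relation.ReflTransGen.tail ih.2
                ⟨e.1, e.2.1, hrC c ih.1, hrC c' hc', e.2.2.2.2⟩⟩
          exact this.2
      have h1 := Set.ncard_le_ncard hsub (Set.toFinite _)
      rw [Set.ncard_insert_of_notMem hnΓ (Set.toFinite _)] at h1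
      have h2 := hmax ⟨(r, a0), hr, n, he⟩
      simp only at h2
      omega

end Cfsg.Agent.Lib.PTransp90
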