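import Cfsg.Agent.Lib.PTransp90.Components
import Cfsg.Agent.Lib.ZStar.Final
import Cfsg.Agent.Lib.Coprime.Sylow
import Cfsg.Agent.Lib.PSolvable.Core
import Cfsg.Prelude.Def_CaseTheorems

/-!
A set of involutions closed under its own conjugation in which distinct products have order `p`
has `p`-power size (by Glauberman's Z*-theorem).
-/

set_option autoImplicit false

open Cfsg

namespace Cfsg.Agent.Lib.PTransp90

universe u

variable {G : Type u} [Group G] [Finite G] {p : ℕ} [Fact p.Prime] {S : Set G}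

private theorem ncard_prime_pow_aux (h : IsPT p S) (hp : p ≠ 2) (hne : S.Nonempty)
    (hodd : ∀ a ∈ S, ∀ b ∈ S, a ≠ b → orderOf (a * b) = p)
    (hgen : Subgroup.closure S = ⊤) : ∃ j : ℕ, S.ncard = p ^ j := by
  classical
  obtain ⟨d, hd⟩ := hne
  have hnc : ∀ {a b : G}, a ∈ S → b ∈ S → a ≠ b → ¬ Commute a b := fun ha hb hab =>
    not_commute_of_order h hp ha hb (hodd _ ha _ hb hab)
  have hconj : ∀ g : G, ∀ s ∈ S, g * s * g⁻¹ ∈ S := fun g s hs =>
    conj_mem_of_gen (fun e he => inv_eq h he) hgen (fun e he => conj_mem' h he) g hs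
  have hiso : IsIsolatedInvolution d := by
    refine ⟨Involution.orderOf_eq_two (h.sq hd) (h.ne_one hd), fun g hc => ?_⟩
    by_contra hne'
    exact hnc hd (hconj g d hd) (fun e => hne' e.symm) hc
  have hZ := ZStar.zStar G d hiso
  set K := oddCore G
  have hKodd : (Nat.card K).Coprime 2 := PSolvable.pPrimeCore_coprime
  have hsd : ∀ s ∈ S, d * s ∈ K := by
    intro s hs
    by_cases e : s = d
    · rw [e, h.sq hd]; exact K.one_mem
    · have hm := hnc hd hs (fun e' => e e'.symm)
      have hg := mid_conj_left h hp hd hs hm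
      have := hZ (mid p d s)
      rw [inv_eq h hd, inv_eq_of_mul_eq_one_right (mid_sq h hd hs)] at this
      rwa [mul_assoc d, mul_assoc d, hg] at this
  have hGK : ∀ g : G, ∃ k ∈ K, g * d * g⁻¹ = k * d * k⁻¹ := by
    intro g
    have htop : K ⊔ Subgroup.zpowers d = ⊤ := by
      rw [eq_top_iff, ← hgen, Subgroup.closure_le]
      intro s hs
      rw [show s = d * (d * s) by rw [← mul_assoc, h.sq hd, one_mul]]
      exact Subgroup.mul_mem _ (Subgroup.mem_sup_right (Subgroup.mem_zpowers d))
        (Subgroup.mem_sup_left (hsd s hs))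
    obtain ⟨k, hk, e, he, rfl⟩ := Subgroup.mem_sup_of_normal_left.mp (htop ▸ Subgroup.mem_top g)
    obtain ⟨i, rfl⟩ := Subgroup.mem_zpowers_iff.mp he
    refine ⟨k, hk, ?_⟩
    rw [mul_inv_rev]
    calc k * d ^ i * d * ((d ^ i)⁻¹ * k⁻¹) = k * (d ^ i * d * (d ^ i)⁻¹) * k⁻¹ := by group
      _ = k * d * k⁻¹ := by group
  set C : Subgroup K := (Subgroup.centralizer ({d} : Set G)).subgroupOf K
  have hCiff : ∀ k : K, k ∈ C ↔ (k : G) * d * (k : G)⁻¹ = d := by
    intro k
    simp only [C, Subgroup.mem_subgroupOf, Subgroup.mem_centralizer_singleton_iff]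
    constructor
    · intro e; rw [e]; group
    · intro e; conv_rhs => rw [← e]
      group
  have hcard : S.ncard = C.index := by
    let f : K ⧸ C → G := Quotient.lift (fun k : K => (k : G) * d * (k : G)⁻¹) (by
      intro a b hab
      have h1 : (a⁻¹ * b : K) ∈ C := QuotientGroup.leftRel_apply.mp hab
      rw [hCiff] at h1
      push_cast at h1
      calc (a : G) * d * (a : G)⁻¹ = (a : G) * (((a : G)⁻¹ * b) * d * ((a : G)⁻¹ * b)⁻¹) * (a : G)⁻¹ := by
            rw [h1]
        _ = _ := by group)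
    have hinj : Function.Injective f := by
      intro q r hqr
      induction q using QuotientGroup.induction_on with
      | H a =>
        induction r using QuotientGroup.induction_on with
        | H b =>
          change (a : G) * d * (a : G)⁻¹ = (b : G) * d * (b : G)⁻¹ at hqr
          rw [QuotientGroup.eq, hCiff]
          push_cast
          calc (a : G)⁻¹ * b * d * ((a : G)⁻¹ * b)⁻¹ = (a : G)⁻¹ * ((b : G) * d * (b : G)⁻¹) * a := by
                group
            _ = d := by rw [← hqr]; group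
    have hrange : Set.range f = S := by
      ext s
      constructor
      · rintro ⟨q, rfl⟩
        induction q using QuotientGroup.induction_on with
        | H a => exact hconj _ d hd
      · intro hs
        by_cases e : s = d
        · exact ⟨QuotientGroup.mk (1 : K), by subst e; show (1 : G) * s * (1 : G)⁻¹ = s; group⟩
        · have hm := hnc hd hs (fun e' => e e'.symm)
          obtain ⟨k, hk, hke⟩ := hGK (mid p d s)
          rw [inv_eq_of_mul_eq_one_right (mid_sq h hd hs), mid_conj_left h hp hd hs hm] at hke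
          exact ⟨QuotientGroup.mk (⟨k, hk⟩ : K), hke.symm⟩
    rw [← hrange, ← Nat.card_coe_set_eq, Nat.card_range_of_injective hinj]
    rfl
  have hid : C.index ≠ 0 := Subgroup.index_ne_zero_of_finite
  refine ⟨C.index.primeFactorsList.length, hcard.trans
    (Nat.eq_prime_pow_of_unique_prime_dvd hid fun {r} hr hrd => ?_)⟩
  by_contra hrp
  haveI : Fact r.Prime := ⟨hr⟩
  have hA : Subgroup.zpowers d ≤ Subgroup.normalizer (K : Set G) := by
    rw [Subgroup.normalizer_eq_top]; exact le_top
  have hcop : (Nat.card (Subgroup.zpowers d)).Coprime (Nat.card K) := by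
    rw [Nat.card_zpowers, hiso.1]; exact hKodd.symm
  have hsolv : Group.IsSolvable (Subgroup.zpowers d) := inferInstance
  obtain ⟨R, hR⟩ := Coprime.exists_invariant_sylow (p := r) hA hcop (Or.inl hsolv)
  have hRC : (R : Subgroup K) ≤ C := by
    intro k hk
    rw [hCiff]
    set R' := (R : Subgroup K).map K.subtype
    have hk' : (k : G) ∈ R' := ⟨k, hk, rfl⟩
    have h2 : d * (k : G)⁻¹ * d⁻¹ ∈ R' :=
      (Subgroup.mem_normalizer_iff.mp (hR (Subgroup.mem_zpowers d)) _).mp (R'.inv_mem hk')
    have h3 : (k : G) * d * (k : G)⁻¹ * d ∈ R' := by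
      have := R'.mul_mem hk' h2
      rw [inv_eq h hd] at this
      simpa [mul_assoc] using this
    by_contra hne'
    have ho := hodd _ (hconj (k : G) d hd) d hd hne'
    obtain ⟨n, hn⟩ := IsPGroup.iff_orderOf.mp (R.2.map K.subtype) ⟨_, h3⟩
    rw [← Subgroup.orderOf_coe] at hn
    simp only at hn
    rw [ho] at hn
    have hn0 : n ≠ 0 := by
      rintro rfl
      simp at hn
      exact (Fact.out : p.Prime).one_lt.ne' hn
    exact hrp ((Nat.prime_dvd_prime_iff_eq hr Fact.out).mp (hn ▸ dvd_pow_self r hn0))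
  exact R.not_dvd_index (hrd.trans (Subgroup.index_dvd_of_le hRC))

/-- Size of a set of involutions closed under own conjugation with all distinct products of order `p`. -/
theorem ncard_prime_pow (h : IsPT p S) (hp : p ≠ 2) (hne : S.Nonempty)
    (hodd : ∀ a ∈ S, ∀ b ∈ S, a ≠ b → orderOf (a * b) = p) : ∃ j : ℕ, S.ncard = p ^ j := by
  set H := Subgroup.closure S
  set S' : Set H := Subtype.val ⁻¹' S
  have h' : IsPT p S' :=
    { sq := fun hd => Subtype.ext (h.sq hd)
      ne_one := fun hd e => h.ne_one hd (by rw [e]; rfl)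
      conj_mem := fun ha hb => h.conj_mem ha hb
      comm_or := fun {a b} ha hb => (h.comm_or ha hb).imp (fun hc => Subtype.ext hc)
        (fun ho => by rw [← Subgroup.orderOf_coe]; exact ho) }
  have hsub : S ⊆ Set.range (Subtype.val : H → G) := fun s hs =>
    ⟨⟨s, Subgroup.subset_closure hs⟩, rfl⟩
  obtain ⟨j, hj⟩ := ncard_prime_pow_aux h' hp
    (by obtain ⟨s, hs⟩ := hne; exact ⟨⟨s, Subgroup.subset_closure hs⟩, hs⟩)
    (fun a ha b hb hab => by
      rw [← Subgroup.orderOf_coe]
      exact hodd _ ha _ hb fun e => hab (Subtype.ext e))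
    (Subgroup.closure_closure_coe_preimage (k := S))
  exact ⟨j, (Set.ncard_preimage_of_injective_subset_range Subtype.val_injective hsub).symm.trans hj⟩

/-- If `2 ^ e = p ^ j + 1` with `p` an odd prime and `j ≥ 1`, then `j = 1`. -/
theorem eq_one_of_two_pow {e j : ℕ} (hp : p ≠ 2) (hj : 1 ≤ j) (h : 2 ^ e = p ^ j + 1) :
    j = 1 := by
  have hp1 : p.Prime := Fact.out
  have hp3 : 3 ≤ p := by have := hp1.two_le; omega
  rcases Nat.even_or_odd j with hev | hod
  · exfalso
    obtain ⟨k, rfl⟩ := hev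
    obtain ⟨m, hm⟩ := hp1.odd_of_ne_two hp
    have hsq : p ^ (k + k) = p ^ k * p ^ k := pow_add p k k
    obtain ⟨q, hq⟩ := (hp1.odd_of_ne_two hp).pow (n := k)
    rw [hsq, hq] at h
    have hq1 : 1 ≤ q := by
      have := Nat.le_self_pow (show k ≠ 0 by omega) p
      omega
    rcases e with _ | _ | e
    · norm_num at h
    · norm_num at h
      nlinarith
    · have h4 : 2 ^ (e + 1 + 1) = 4 * 2 ^ e := by ring
      rw [h4] at h
      generalize 2 ^ e = X at h
      ring_nf at h
      omega
  · obtain ⟨i, hi⟩ : ∃ i, p + 1 = 2 ^ i := by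
      have hd : p + 1 ∣ 2 ^ e := by
        rw [h]; simpa using hod.nat_add_dvd_pow_add_pow p 1
      obtain ⟨i, -, hi⟩ := (Nat.dvd_prime_pow Nat.prime_two).mp hd
      exact ⟨i, hi⟩
    have hmod : ∀ m : ℕ, p ^ (2 * m + 1) ≡ p [MOD 2 ^ (i + 1)] := by
      have hsq : p ^ 2 ≡ 1 [MOD 2 ^ (i + 1)] := by
        refine ((Nat.modEq_iff_dvd' (Nat.one_le_pow _ _ hp1.pos)).mpr ?_).symm
        obtain ⟨c, hc⟩ : 2 ∣ p - 1 := by
          obtain ⟨m, hm⟩ := hp1.odd_of_ne_two hp; omega
        refine ⟨c, ?_⟩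
        rw [pow_succ 2 i, ← hi, mul_assoc, ← hc]
        have := Nat.sq_sub_sq p 1
        simpa using this
      intro m
      have := (hsq.pow m).mul_right p
      rwa [← pow_mul, ← pow_succ, one_pow, one_mul] at this
    obtain ⟨m, hm⟩ := hod
    have h1 : e ≤ i := by
      by_contra hlt
      have h2 : 2 ^ (i + 1) ∣ p ^ j + 1 := h ▸ pow_dvd_pow 2 (by omega)
      have h3 : 2 ^ (i + 1) ∣ p + 1 := (((hm ▸ hmod m).add_right 1).dvd_iff dvd_rfl).mp h2
      rw [hi] at h3
      have := (Nat.pow_dvd_pow_iff_le_right (by norm_num : 1 < 2)).mp h3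
      omega
    by_contra hne
    have h2 : p ^ 1 < p ^ j := Nat.pow_lt_pow_right hp1.one_lt (by omega)
    have h4 := Nat.pow_le_pow_right (show 1 ≤ 2 by norm_num) h1
    rw [pow_one] at h2
    omega

end Cfsg.Agent.Lib.PTransp90
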