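import Cfsg.Agent.Lib.PTransp90.RankThree
import Cfsg.Agent.Lib.Involution.BaerSuzuki
import Cfsg.Agent.Lib.OddCond.Basic
import Cfsg.Prelude.Def_SporadicB

/-!
A generating rank three class of involutions in a group without solvable radical is a class of
3-transpositions.  The case of two odd product orders uses the odd order theorem as a hypothesis.
-/

set_option autoImplicit false

open Cfsg

namespace Cfsg.Agent.Lib.PTransp90

universe u

variable {G : Type u} [Group G]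

/-- The orbit of `y` under the centraliser of `x`. -/
def centOrbit (x y : G) : Set G := {w : G | ∃ g : G, Commute g x ∧ g * y * g⁻¹ = w}

theorem centOrbit_eq {x y v : G} (hv : v ∈ centOrbit x y) : centOrbit x v = centOrbit x y := by
  obtain ⟨g, hg, rfl⟩ := hv
  ext w
  constructor
  · rintro ⟨k, hk, rfl⟩; exact ⟨k * g, hk.mul_left hg, by group⟩
  · rintro ⟨k, hk, rfl⟩; exact ⟨k * g⁻¹, hk.mul_left hg.inv_left, by group⟩

theorem mem_centOrbit_self (x y : G) : y ∈ centOrbit x y := ⟨1, Commute.one_left x, by group⟩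

theorem centOrbit_self (x : G) : centOrbit x x = {x} := by
  ext w
  constructor
  · rintro ⟨g, hg, rfl⟩; exact mul_inv_eq_iff_eq_mul.mpr hg
  · rintro rfl; exact mem_centOrbit_self _ _

variable [Finite G] {D : Set G}

omit [Finite G] in
/-- Every divisor of a product order is a product order. -/
theorem exists_order_of_dvd (hsq : ∀ d ∈ D, d * d = 1) (hD : ∀ g : G, ∀ d ∈ D, g * d * g⁻¹ ∈ D)
    {x w : G} (hx : x ∈ D) (hw : w ∈ D) {d : ℕ} (hd : d ∣ orderOf (x * w)) (hd1 : 1 < d)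
    (hpos : orderOf (x * w) ≠ 0) : ∃ v ∈ D, v ≠ x ∧ orderOf (x * v) = d := by
  obtain ⟨k, hk⟩ := hd
  have hxv : x * (x * (x * w) ^ k) = (x * w) ^ k := by rw [← mul_assoc, hsq x hx, one_mul]
  have hord : orderOf ((x * w) ^ k) = d := by
    have hk0 : k ≠ 0 := by rintro rfl; rw [mul_zero] at hk; exact hpos hk
    rw [orderOf_pow' _ hk0, hk, Nat.gcd_mul_left_left, Nat.mul_div_cancel _ (Nat.pos_of_ne_zero hk0)]
  refine ⟨x * (x * w) ^ k, ?_, ?_, by rw [hxv, hord]⟩
  · set s := x * w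
    have hflip : ∀ j : ℤ, x * s ^ j = s ^ (-j) * x :=
      Involution.mul_zpow_pair (hsq x hx) (hsq w hw)
    rw [← zpow_natCast]
    rcases Nat.even_or_odd k with ⟨j, hj⟩ | ⟨j, hj⟩
    · have := hD (s ^ (-(j : ℤ))) x hx
      convert this using 1
      rw [← hflip, hj]
      push_cast
      rw [zpow_neg, inv_inv, mul_assoc, ← zpow_add]
    · have := hD (s ^ (-(j : ℤ))) w hw
      convert this using 1
      rw [show w = x * s by simp only [s, ← mul_assoc, hsq x hx, one_mul], ← mul_assoc, ← hflip, hj]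
      push_cast
      rw [zpow_neg, inv_inv, mul_assoc, mul_assoc, ← mul_assoc (s ^ (j : ℤ)), ← zpow_add_one,
        ← zpow_add, show (j : ℤ) + 1 + j = 2 * (j : ℤ) + 1 by ring]
  · intro e
    have h1 : (x * w) ^ k = 1 := mul_eq_left.mp e
    rw [h1, orderOf_one] at hord
    omega

theorem threeTransposition_of_oddSolvable (hFT : OddCond.OddSolvable.{u})
    (hsol : ∀ N : Subgroup G, N.Normal → Group.IsSolvable ↥N → N = ⊥)
    (hinv : ∀ d ∈ D, orderOf d = 2) (hconj : ∃ d ∈ D, D = conjugatesOf d)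
    (hgen : Subgroup.closure D = ⊤)
    (hrank : ∀ x ∈ D, ∃ y ∈ D, ∃ z ∈ D, centOrbit x y ≠ centOrbit x x ∧
      centOrbit x z ≠ centOrbit x x ∧ centOrbit x y ≠ centOrbit x z ∧
      D = centOrbit x x ∪ centOrbit x y ∪ centOrbit x z) : IsThreeTranspositionClass D := by
  classical
  refine ⟨⟨hinv, ?_⟩, hconj, hgen⟩
  obtain ⟨d0, hd0, hDeq⟩ := hconj
  have hcl : ∀ a ∈ D, IsConj d0 a := fun a ha => by rw [hDeq] at ha; exact ha
  have hD : ∀ g : G, ∀ d ∈ D, g * d * g⁻¹ ∈ D := fun g d hd => by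
    rw [hDeq]
    exact (hcl d hd).trans (isConj_iff.mpr ⟨g, rfl⟩)
  have hsq : ∀ d ∈ D, d * d = 1 := fun d hd => Involution.mul_self_eq_one (hinv d hd)
  have hne1 : ∀ d ∈ D, d ≠ 1 := fun d hd => Involution.ne_one (hinv d hd)
  obtain ⟨y, hy, z, hz, hyo, hzo, hyz, hcover⟩ := hrank d0 hd0
  rw [centOrbit_self] at hyo hzo hcover
  have hyne : y ≠ d0 := fun e => hyo (e ▸ centOrbit_self d0)
  have hzne : z ≠ d0 := fun e => hzo (e ▸ centOrbit_self d0)
  set n1 := orderOf (d0 * y) with hn1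
  set n2 := orderOf (d0 * z) with hn2
  have horb : ∀ {v w : G}, v ∈ centOrbit d0 w → orderOf (d0 * v) = orderOf (d0 * w) := by
    rintro v w ⟨g, hg, rfl⟩
    rw [show d0 * (g * w * g⁻¹) = g * (d0 * w) * g⁻¹ by
      rw [← mul_assoc g d0, hg.eq]; group]
    exact Involution.orderOf_conj_eq g _
  have hbase : ∀ w ∈ D, w ≠ d0 → w ∈ centOrbit d0 y ∨ w ∈ centOrbit d0 z := by
    intro w hw hwne
    rw [hcover] at hw
    rcases hw with (hw | hw) | hw
    · exact absurd hw hwne
    · exact Or.inl hw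
    · exact Or.inr hw
  have htwo : ∀ a ∈ D, ∀ w ∈ D, w ≠ a → orderOf (a * w) = n1 ∨ orderOf (a * w) = n2 := by
    intro a ha w hw hwa
    obtain ⟨g, rfl⟩ := isConj_iff.mp (hcl a ha)
    have hw' : g⁻¹ * w * g ∈ D := by simpa using hD g⁻¹ w hw
    have hwne : g⁻¹ * w * g ≠ d0 := fun e => hwa (by rw [← e]; group)
    have e : orderOf (g * d0 * g⁻¹ * w) = orderOf (d0 * (g⁻¹ * w * g)) := by
      rw [← Involution.orderOf_conj_eq g (d0 * (g⁻¹ * w * g))]; congr 1; group
    exact (hbase _ hw' hwne).imp (fun h => e.trans (horb h)) (fun h => e.trans (horb h))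
  have hrk : n1 ≠ n2 → ∀ a ∈ D, ∀ w ∈ D, ∀ w' ∈ D, w ≠ a → w' ≠ a →
      orderOf (a * w) = orderOf (a * w') → ∃ g : G, Commute g a ∧ g * w * g⁻¹ = w' := by
    intro hn a ha w hw w' hw' hwa hw'a ho
    obtain ⟨g, rfl⟩ := isConj_iff.mp (hcl a ha)
    have h1 : g⁻¹ * w * g ∈ D := by simpa using hD g⁻¹ w hw
    have h1' : g⁻¹ * w' * g ∈ D := by simpa using hD g⁻¹ w' hw'
    have hne : g⁻¹ * w * g ≠ d0 := fun e => hwa (by rw [← e]; group)
    have hne' : g⁻¹ * w' * g ≠ d0 := fun e => hw'a (by rw [← e]; group)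
    have ho' : orderOf (d0 * (g⁻¹ * w * g)) = orderOf (d0 * (g⁻¹ * w' * g)) := by
      rw [← Involution.orderOf_conj_eq g (d0 * (g⁻¹ * w * g)),
        ← Involution.orderOf_conj_eq g (d0 * (g⁻¹ * w' * g))]
      convert ho using 2 <;> group
    obtain ⟨k, hk, hkw⟩ : g⁻¹ * w' * g ∈ centOrbit d0 (g⁻¹ * w * g) := by
      rcases hbase _ h1 hne with h | h <;> rcases hbase _ h1' hne' with h' | h'
      · rwa [centOrbit_eq h]
      · exact absurd ((horb h).symm.trans (ho'.trans (horb h'))) hn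
      · exact absurd ((horb h').symm.trans (ho'.symm.trans (horb h))) hn
      · rwa [centOrbit_eq h]
    refine ⟨g * k * g⁻¹, (Commute.conj_iff g).mpr hk, ?_⟩
    calc g * k * g⁻¹ * w * (g * k * g⁻¹)⁻¹ = g * (k * (g⁻¹ * w * g) * k⁻¹) * g⁻¹ := by group
      _ = w' := by rw [hkw]; group
  have hpos : ∀ v : G, orderOf v ≠ 0 := fun v => (orderOf_pos v).ne'
  have hne_one : ∀ w ∈ D, w ≠ d0 → orderOf (d0 * w) ≠ 1 := by
    intro w hw hwne e
    rw [orderOf_eq_one_iff, mul_eq_one_iff_inv_eq, inv_eq_of_mul_eq_one_right (hsq d0 hd0)] at e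
    exact hwne e.symm
  have hdiv : ∀ {n d : ℕ}, (n = n1 ∨ n = n2) → d ∣ n → 1 < d → d = n1 ∨ d = n2 := by
    intro n d hn hd hd1
    obtain ⟨w, hw, hnw⟩ : ∃ w ∈ D, n = orderOf (d0 * w) := hn.elim (fun e => ⟨y, hy, e⟩)
      (fun e => ⟨z, hz, e⟩)
    rw [hnw] at hd
    obtain ⟨v, hv, hvne, hvo⟩ := exists_order_of_dvd hsq hD hd0 hw hd hd1 (hpos _)
    rw [← hvo]
    exact htwo d0 hd0 v hv hvne
  have hfour : ¬ ((n1 ∣ 4) ∧ (n2 ∣ 4)) := by
    rintro ⟨h1, h2⟩
    have hx1 := hne1 d0 hd0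
    haveI : Fact (Nat.Prime 2) := ⟨Nat.prime_two⟩
    obtain ⟨N, hN, hN2, hdN⟩ := Involution.baer_suzuki_element (p := 2) d0 fun g => by
      refine Involution.isPGroup_two_closure_pair (hsq d0 hd0) (hsq _ (hD g d0 hd0)) 2 ?_
      rw [← orderOf_dvd_iff_pow_eq_one]
      by_cases e : g * d0 * g⁻¹ = d0
      · rw [e, hsq d0 hd0, orderOf_one]; exact one_dvd _
      · rcases htwo d0 hd0 _ (hD g d0 hd0) e with h | h <;> rw [h]
        · simpa using h1
        · simpa using h2
    have := hsol N hN (OddCond.isPGroup_isSolvable hN2)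
    rw [this, Subgroup.mem_bot] at hdN
    exact hx1 hdN
  by_cases hodd : Odd n1 ∧ Odd n2
  · exfalso
    have hiso : IsIsolatedInvolution d0 := by
      refine ⟨hinv d0 hd0, fun g hc => ?_⟩
      by_contra hne
      have h2 : orderOf (d0 * (g * d0 * g⁻¹)) ∣ 2 := by
        refine orderOf_dvd_of_pow_eq_one ?_
        rw [pow_two, hc.symm.mul_mul_mul_comm, hsq d0 hd0, hsq _ (hD g d0 hd0), one_mul]
      rcases (Nat.dvd_prime Nat.prime_two).mp h2 with e | e
      · exact hne_one _ (hD g d0 hd0) hne e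
      · rcases htwo d0 hd0 _ (hD g d0 hd0) hne with h | h <;> rw [e] at h
        · rw [← h] at hodd; exact absurd hodd.1 (by decide)
        · rw [← h] at hodd; exact absurd hodd.2 (by decide)
    have hK : oddCore G = ⊥ := hsol _ inferInstance
      (hFT (oddCore G) (Nat.coprime_two_right.mp PSolvable.pPrimeCore_coprime))
    obtain ⟨g, hg⟩ := isConj_iff.mp (hcl y hy)
    have := ZStar.zStar G d0 hiso g
    rw [hK, Subgroup.mem_bot] at this
    refine hyne (hg.symm.trans ?_)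
    have h2 : d0 * g = g * d0 := by
      rwa [mul_inv_eq_one, mul_inv_eq_iff_eq_mul] at this
    rw [← h2, mul_inv_cancel_right]
  -- one product order is 2
  obtain ⟨n, hn2', hnmem, hset, hsep⟩ : ∃ n : ℕ, (n1 = 2 ∨ n2 = 2) ∧ (n = n1 ∨ n = n2) ∧
      (∀ m, (m = n1 ∨ m = n2) ↔ (m = 2 ∨ m = n)) ∧ (n ≠ 2 → n1 ≠ n2) := by
    have h2 : n1 = 2 ∨ n2 = 2 := by
      simp only [not_and_or, Nat.not_odd_iff_even, even_iff_two_dvd] at hodd
      exact (hodd.elim (fun h => hdiv (Or.inl rfl) h one_lt_two)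
        (fun h => hdiv (Or.inr rfl) h one_lt_two)).imp Eq.symm Eq.symm
    rcases h2 with e | e
    · exact ⟨n2, Or.inl e, Or.inr rfl, fun m => by rw [e], fun hne => by omega⟩
    · exact ⟨n1, Or.inr e, Or.inl rfl, fun m => by rw [e]; exact or_comm, fun hne => by omega⟩
  have hn1' : 1 < n := by
    have h1 : n ≠ 0 ∧ n ≠ 1 := hnmem.elim
      (fun e => e ▸ ⟨hpos _, hne_one y hy hyne⟩) (fun e => e ▸ ⟨hpos _, hne_one z hz hzne⟩)
    omega
  have hdn : ∀ d, d ∣ n → 1 < d → d = 2 ∨ d = n := fun d hd hd1 =>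
    (hset d).mp (hdiv hnmem hd hd1)
  have hn4 : ¬ n ∣ 4 := by
    intro h4
    refine hfour ⟨?_, ?_⟩
    · rcases (hset n1).mp (Or.inl rfl) with e | e <;> rw [e]
      · norm_num
      · exact h4
    · rcases (hset n2).mp (Or.inr rfl) with e | e <;> rw [e]
      · norm_num
      · exact h4
  have hnodd : ¬ 2 ∣ n := by
    rintro ⟨c, hc⟩
    have hc1 : 1 < c := by
      by_contra hle
      refine hn4 ?_
      rw [hc, show c = 1 by omega]
      norm_num
    rcases hdn c ⟨2, by omega⟩ hc1 with e | e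
    · exact hn4 ⟨1, by omega⟩
    · omega
  have hprime : n.Prime := by
    have hm := Nat.minFac_prime (show n ≠ 1 by omega)
    rcases hdn n.minFac (Nat.minFac_dvd n) hm.one_lt with e | e
    · exact absurd (e ▸ Nat.minFac_dvd n) hnodd
    · exact e ▸ hm
  intro a ha b hb
  rcases eq_or_ne b a with rfl | hne
  · left; rw [hsq b hb, one_pow]
  rcases (hset _).mp (htwo a ha b hb hne) with e | e
  · left; rw [← e]; exact pow_orderOf_eq_one _
  by_cases h3 : n = 3
  · right; rw [← h3, ← e]; exact pow_orderOf_eq_one _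
  exfalso
  have hn5 : 5 ≤ n := by
    have := hprime.two_le
    by_contra hlt
    interval_cases n
    · exact hnodd dvd_rfl
    · exact h3 rfl
    · exact hnodd ⟨2, rfl⟩
  haveI : Fact n.Prime := ⟨hprime⟩
  have hnp : n ≠ 2 := by omega
  have hPT : IsPT n D :=
    { sq := fun {d} hd => hsq d hd
      ne_one := fun {d} hd => hne1 d hd
      conj_mem := fun {u v} hu hv => by
        have := hD u v hv
        rwa [inv_eq_of_mul_eq_one_right (hsq u hu)] at this
      comm_or := fun {u v} hu hv => by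
        rcases eq_or_ne v u with rfl | hvu
        · exact Or.inl (Commute.refl v)
        rcases (hset _).mp (htwo u hu v hv hvu) with e' | e'
        · left
          have h2 : (u * v) * (u * v) = 1 := by rw [← pow_two, ← e']; exact pow_orderOf_eq_one _
          have h3 := inv_eq_of_mul_eq_one_right h2
          rw [mul_inv_rev, inv_eq_of_mul_eq_one_right (hsq u hu),
            inv_eq_of_mul_eq_one_right (hsq v hv)] at h3
          exact h3.symm
        · exact Or.inr e' }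
  refine false_of_rank_three hn5 hPT hsol hgen (fun u hu v hv => (hcl u hu).symm.trans (hcl v hv))
    ⟨a, ha, b, hb, not_commute_of_order hPT hnp ha hb e⟩ ?_ ?_
  · obtain ⟨w, hw, hwne, hwo⟩ : ∃ w ∈ D, w ≠ d0 ∧ orderOf (d0 * w) = 2 :=
      hn2'.elim (fun h => ⟨y, hy, hyne, h⟩) (fun h => ⟨z, hz, hzne, h⟩)
    refine ⟨d0, hd0, w, hw, ?_, hwne.symm⟩
    refine (hPT.comm_or hd0 hw).resolve_right ?_
    rw [hwo]; omega
  · intro x hx u hu u' hu' hxu hxu'
    have key : ∀ v, v ∈ D → ¬ Commute x v → v ≠ x ∧ orderOf (x * v) = n := fun v hv hc =>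
      ⟨fun e => hc (e ▸ Commute.refl x), order_of_nc hPT hx hv hc⟩
    exact hrk (hsep hnp) x hx u hu u' hu' (key u hu hxu).1 (key u' hu' hxu').1
      ((key u hu hxu).2.trans (key u' hu' hxu').2.symm)

end Cfsg.Agent.Lib.PTransp90
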