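import Cfsg.Agent.Lib.PTransp90.BlockWorld

/-!
No set of involutions with products of order 1, 2 or `p` contains a commuting pair together with a
third member in general position.
-/

set_option autoImplicit false

namespace Cfsg.Agent.Lib.PTransp90

universe u

variable {G : Type u} [Group G] {p : ℕ} [Fact p.Prime] {D : Set G}

theorem isPT_preimage (h : IsPT p D) (H : Subgroup G) :
    IsPT p (Subtype.val ⁻¹' D : Set H) where
  sq hd := Subtype.ext (h.sq hd)
  ne_one hd e := h.ne_one hd (by rw [e]; rfl)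
  conj_mem ha hb := h.conj_mem ha hb
  comm_or {a b} ha hb := (h.comm_or ha hb).imp (fun hc => Subtype.ext hc)
    (fun ho => by rw [← Subgroup.orderOf_coe]; exact ho)

theorem isB_preimage {x z y : G} (hB : IsB D x z y) (H : Subgroup G) (hx : x ∈ H) (hz : z ∈ H)
    (hy : y ∈ H) : IsB (Subtype.val ⁻¹' D : Set H) ⟨x, hx⟩ ⟨z, hz⟩ ⟨y, hy⟩ where
  memx := hB.memx
  memz := hB.memz
  memy := hB.memy
  comm := Subtype.ext hB.comm
  ne e := hB.ne (congrArg Subtype.val e)
  ncx e := hB.ncx (congrArg Subtype.val e)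
  ncz e := hB.ncz (congrArg Subtype.val e)
  nct e := hB.nct (congrArg Subtype.val e)

theorem isPT_quotient (h : IsPT p D) (N : Subgroup G) [N.Normal] (hDN : ∀ d ∈ D, d ∉ N) :
    IsPT p (QuotientGroup.mk' N '' D) where
  sq := by rintro _ ⟨d, hd, rfl⟩; rw [← map_mul, h.sq hd, map_one]
  ne_one := by
    rintro _ ⟨d, hd, rfl⟩ e
    exact hDN d hd ((QuotientGroup.eq_one_iff d).mp e)
  conj_mem := by
    rintro _ _ ⟨a, ha, rfl⟩ ⟨b, hb, rfl⟩
    exact ⟨_, h.conj_mem ha hb, by rw [map_mul, map_mul]⟩
  comm_or := by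
    rintro _ _ ⟨a, ha, rfl⟩ ⟨b, hb, rfl⟩
    rcases h.comm_or ha hb with hc | ho
    · exact Or.inl (hc.map _)
    · by_cases hN : a * b ∈ N
      · left
        have e : QuotientGroup.mk' N a * QuotientGroup.mk' N b = 1 := by
          rw [← map_mul]; exact (QuotientGroup.eq_one_iff _).mpr hN
        rw [eq_inv_of_mul_eq_one_left e]
        exact (Commute.refl (QuotientGroup.mk' N b)).inv_left
      · right
        rw [← map_mul]
        refine ((Fact.out : p.Prime).eq_one_or_self_of_dvd _
          (ho ▸ orderOf_map_dvd (QuotientGroup.mk' N) (a * b))).resolve_left fun e => hN ?_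
        rw [orderOf_eq_one_iff] at e
        exact (QuotientGroup.eq_one_iff _).mp e

theorem isB_quotient (h : IsPT p D) (hp : p ≠ 2) {x z y : G} (hB : IsB D x z y) (N : Subgroup G)
    [N.Normal] (hDN : ∀ d ∈ D, d ∉ N) (h1 : y * x ∉ N) (h2 : y * z ∉ N) (h3 : x * z ∉ N)
    (h4 : y * ((x * z) * y * (x * z)) ∉ N) :
    IsB (QuotientGroup.mk' N '' D) (QuotientGroup.mk' N x) (QuotientGroup.mk' N z)
      (QuotientGroup.mk' N y) := by
  have hq := isPT_quotient h N hDN
  have key : ∀ {u v : G}, u ∈ D → v ∈ D → ¬ Commute u v → u * v ∉ N →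
      ¬ Commute (QuotientGroup.mk' N u) (QuotientGroup.mk' N v) := by
    intro u v hu hv huv hN
    refine not_commute_of_order hq hp ⟨u, hu, rfl⟩ ⟨v, hv, rfl⟩ ?_
    rw [← map_mul]
    refine ((Fact.out : p.Prime).eq_one_or_self_of_dvd _
      (order_of_nc h hu hv huv ▸ orderOf_map_dvd (QuotientGroup.mk' N) (u * v))).resolve_left
        fun e => hN ?_
    rw [orderOf_eq_one_iff] at e
    exact (QuotientGroup.eq_one_iff _).mp e
  refine ⟨⟨x, hB.memx, rfl⟩, ⟨z, hB.memz, rfl⟩, ⟨y, hB.memy, rfl⟩, hB.comm.map _, ?_,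
    key hB.memy hB.memx hB.ncx h1, key hB.memy hB.memz hB.ncz h2, ?_⟩
  · intro e
    refine h3 ?_
    have := QuotientGroup.eq.mp e
    rwa [inv_eq h hB.memx] at this
  · have hyD : x * z * y * (x * z) ∈ D := by
      have := h.conj_mem hB.memx (h.conj_mem hB.memz hB.memy)
      convert this using 1
      conv_lhs => arg 2; rw [hB.comm.eq]
      simp only [mul_assoc]
    have := key hB.memy hyD hB.nct h4
    simpa only [map_mul] using this

variable [Finite G]

theorem card_quotient_lt (N : Subgroup G) [N.Normal] (hN : N ≠ ⊥) :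
    Nat.card (G ⧸ N) < Nat.card G := by
  rw [Subgroup.card_eq_card_quotient_mul_card_subgroup N]
  have h1 : 1 < Nat.card N := (Subgroup.one_lt_card_iff_ne_bot N).mpr hN
  exact lt_mul_right Nat.card_pos h1

/-- No configuration `IsB` exists. -/
theorem not_isB (hp5 : 5 ≤ p) (h : IsPT p D) (x z y : G) : ¬ IsB D x z y := by
  induction hn : Nat.card G using Nat.strong_induction_on generalizing G with
  | _ n ih =>
  subst hn
  intro hB
  have hp : p ≠ 2 := by omega
  have hgenB : ∀ {E : Set G}, IsPT p E → ∀ {a b c : G}, IsB E a b c →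
      Subgroup.closure ({a, b, c} : Set G) = ⊤ := by
    intro E hE a b c habc
    by_contra hne
    have hlt : Nat.card (Subgroup.closure ({a, b, c} : Set G)) < Nat.card G :=
      lt_of_le_of_ne (Subgroup.card_le_card_group _) fun e => hne (Subgroup.eq_top_of_card_eq _ e)
    exact ih _ hlt (isPT_preimage hE _) _ _ _ rfl
      (isB_preimage habc _ (Subgroup.subset_closure (by simp)) (Subgroup.subset_closure (by simp))
        (Subgroup.subset_closure (by simp)))
  -- restrict to the class of `y`
  set E : Set G := {d | d ∈ D ∧ IsConj y d}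
  have hE : IsPT p E :=
    { sq := fun hd => h.sq hd.1
      ne_one := fun hd => h.ne_one hd.1
      comm_or := fun hu hv => h.comm_or hu.1 hv.1
      conj_mem := fun {u v} hu hv => ⟨h.conj_mem hu.1 hv.1,
        hv.2.trans (isConj_iff.mpr ⟨u, by rw [inv_eq h hu.1]⟩)⟩ }
  have hmidconj : ∀ {u : G}, u ∈ D → ¬ Commute y u → IsConj y u := by
    intro u hu hc
    refine isConj_iff.mpr ⟨mid p y u, ?_⟩
    rw [inv_eq_of_mul_eq_one_right (mid_sq h hB.memy hu)]
    exact mid_conj_left h hp hB.memy hu hc
  have hxE : x ∈ E := ⟨hB.memx, hmidconj hB.memx hB.ncx⟩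
  have hzE : z ∈ E := ⟨hB.memz, hmidconj hB.memz hB.ncz⟩
  have hyE : y ∈ E := ⟨hB.memy, IsConj.refl y⟩
  have hBE : IsB E x z y := ⟨hxE, hzE, hyE, hB.comm, hB.ne, hB.ncx, hB.ncz, hB.nct⟩
  have hgen : Subgroup.closure E = ⊤ := by
    rw [eq_top_iff, ← hgenB hE hBE]
    refine Subgroup.closure_mono ?_
    rintro w (rfl | rfl | rfl) <;> assumption
  have hconjG : ∀ (g : G), ∀ d ∈ E, g * d * g⁻¹ ∈ E := fun g d hd =>
    conj_mem_of_gen (fun e he => inv_eq hE he) hgen (fun e he => conj_mem' hE he) g hd
  have hclass : ∀ {a b : G}, a ∈ E → b ∈ E → IsConj a b := fun ha hb => ha.2.symm.trans hb.2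
  -- trivial centre
  have hZ : Subgroup.center G = ⊥ := by
    by_contra hne
    have hDN : ∀ d ∈ E, d ∉ Subgroup.center G := by
      intro d hd hdc
      obtain ⟨g, rfl⟩ := isConj_iff.mp (hclass hd hyE)
      refine hB.ncx ?_
      have := Subgroup.mem_center_iff.mp hdc g
      rw [this, mul_inv_cancel_right]
      exact (Subgroup.mem_center_iff.mp hdc x).symm
    have hab : ∀ {a b : G}, a ∈ E → ¬ Commute a b → a * b ∉ Subgroup.center G := by
      intro a b ha hc hm
      refine hc ?_
      have e : a * (a * b) = a * b * a := Subgroup.mem_center_iff.mp hm a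
      rw [← mul_assoc, hE.sq ha, one_mul] at e
      have h2 := congrArg (fun w => a * w) e
      simp only [← mul_assoc, hE.sq ha, one_mul] at h2
      exact h2
    have hyD : x * z * y * (x * z) ∈ E := by
      have := hE.conj_mem hxE (hE.conj_mem hzE hyE)
      convert this using 1
      conv_lhs => arg 2; rw [hB.comm.eq]
      simp only [mul_assoc]
    refine ih _ (card_quotient_lt _ hne) (isPT_quotient hE _ hDN) _ _ _ rfl
      (isB_quotient hE hp hBE _ hDN (hab hyE hB.ncx) (hab hyE hB.ncz) ?_ (hab hyE hB.nct))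
    intro hm
    refine hB.nct ?_
    have e := Subgroup.mem_center_iff.mp hm y
    rw [← e, mul_assoc, show x * z * (x * z) = 1 from sq_mul_of_commute h hB.memx hB.memz hB.comm,
      mul_one]
  have hcentral : ∀ {a b c g : G}, IsB E a b c → Commute g a → Commute g b → Commute g c →
      g = 1 := by
    intro a b c g habc ha hb hc
    have : g ∈ Subgroup.center G := by
      rw [Subgroup.mem_center_iff]
      intro u
      have hle : Subgroup.closure ({a, b, c} : Set G) ≤ Subgroup.centralizer ({g} : Set G) := by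
        rw [Subgroup.closure_le]
        rintro w (rfl | rfl | rfl) <;> rw [SetLike.mem_coe, Subgroup.mem_centralizer_singleton_iff] <;>
          first
          | exact ha.eq.symm
          | exact hb.eq.symm
          | exact hc.eq.symm
      rw [hgenB hE habc] at hle
      exact Subgroup.mem_centralizer_singleton_iff.mp (hle (Subgroup.mem_top u))
    rwa [hZ, Subgroup.mem_bot] at this
  have hCB : CB E := by
    intro a b c habc
    obtain ⟨hca, hcb, hcc⟩ := isB_central hE hp habc
    have := hcentral habc hca.symm hcb.symm hcc.symm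
    rw [mul_eq_one_iff_eq_inv, inv_eq hE (isB_mid hE hp habc).1] at this
    rw [this]
    exact (isB_mid hE hp habc).1
  have htE : x * z ∈ E := hCB x z y hBE
  have hdisc : ∀ {a : G}, a ∈ E → ∃ b ∈ E, ¬ Reach E a b := fun ha =>
    exists_not_reach hE hp5 hCB hgen (fun a ha b hb => hclass ha hb) ⟨y, hyE, x, hxE, hB.ncx⟩ ha
  have hxy : ¬ Reach E x y := by
    intro hr
    obtain ⟨b, hb, hnb⟩ := hdisc hxE
    obtain ⟨g, hg⟩ := isConj_iff.mp (hclass hxE hb)
    refine hnb (hg ▸ (conj_mem_of_gen (D := ({x, z, y} : Set G))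
      (S := {w | Reach E x w}) ?_ (hgenB hE hBE) ?_ g (Reach.refl' x)))
    · rintro d (rfl | rfl | rfl) <;> exact inv_eq h (by first | exact hB.memx | exact hB.memz | exact hB.memy)
    · intro d hd w hw
      have hdE : d ∈ E ∧ Reach E x d := by
        rcases hd with rfl | rfl | rfl
        · exact ⟨hxE, Reach.refl' d⟩
        · exact ⟨hzE, Reach.single' hxE hzE hB.comm⟩
        · exact ⟨hyE, hr⟩
      show Reach E x (d * w * d⁻¹)
      rw [inv_eq hE hdE.1]
      exact Reach.trans' hw (reach_conj hE (Reach.mem hxE hw) hdE.1 (hw.symm'.trans' hdE.2))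
  let M : Subgroup G :=
    { carrier := {g | ∀ a ∈ E, Reach E a (g * a * g⁻¹)}
      one_mem' := fun a _ => by rw [one_mul, inv_one, mul_one]; exact Reach.refl' a
      mul_mem' := fun {g g'} hg hg' a ha => by
        have := (hg' a ha).trans' (hg _ (hconjG g' a ha))
        rwa [show g * (g' * a * g'⁻¹) * g⁻¹ = g * g' * a * (g * g')⁻¹ by group] at this
      inv_mem' := fun {g} hg a ha => by
        have := (hg _ (hconjG g⁻¹ a ha)).symm'
        rwa [show g * (g⁻¹ * a * g⁻¹⁻¹) * g⁻¹ = a by group] at this }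
  haveI hMn : M.Normal := ⟨fun m hm g a ha => by
    have := (hm _ (hconjG g⁻¹ a ha)).conj (g := g) (hconjG g)
    rw [show g * (g⁻¹ * a * g⁻¹⁻¹) * g⁻¹ = a by group] at this
    rwa [show g * (m * (g⁻¹ * a * g⁻¹⁻¹) * m⁻¹) * g⁻¹ = g * m * g⁻¹ * a * (g * m * g⁻¹)⁻¹ by group]
      at this⟩
  have hDM : ∀ d ∈ E, d ∉ M := by
    intro d hd hdM
    have hall : ∀ a ∈ E, Reach E a d := fun a ha => by
      refine reach_of_conj hE hp ha hd ?_
      have := hdM a ha
      rwa [inv_eq hE hd] at this
    exact hxy ((hall x hxE).trans' (hall y hyE).symm')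
  have habM : ∀ {a b : G}, a ∈ E → b ∈ E → a * b ∈ M → Reach E a b := by
    intro a b ha hb hm
    have := hm b hb
    rw [mul_inv_rev, inv_eq hE ha, inv_eq hE hb,
      show a * b * b * (b * a) = a * b * a by
        simp only [mul_assoc]; rw [← mul_assoc b b, hE.sq hb, one_mul]] at this
    exact (reach_of_conj hE hp hb ha this).symm'
  have hM : M = ⊥ := by
    by_contra hne
    have hyD : x * z * y * (x * z) ∈ E := by
      have := hE.conj_mem htE hyE
      exact this
    refine ih _ (card_quotient_lt _ hne) (isPT_quotient hE _ hDM) _ _ _ rfl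
      (isB_quotient hE hp hBE _ hDM (fun hm => hxy (habM hyE hxE hm).symm') ?_ (hDM _ htE) ?_)
    · exact fun hm => hxy ((Reach.single' hxE hzE hB.comm).trans' (habM hyE hzE hm).symm')
    · intro hm
      have h1 : Reach E y (x * z) := reach_of_conj hE hp hyE htE (habM hyE hyD hm)
      have h2 : Reach E x (x * z) :=
        Reach.single' hxE htE ((Commute.refl x).mul_right hB.comm)
      exact hxy (h2.trans' h1.symm')
  have hmul : ∀ {a b : G}, a ∈ E → b ∈ E → Commute a b → a ≠ b → a * b ∈ E := by
    intro a b ha hb hab hne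
    by_cases hex : ∃ c ∈ E, ¬ Reach E a c ∧ ¬ Commute c ((a * b) * c * (a * b))
    · obtain ⟨c, hc, hac, hct⟩ := hex
      exact hCB a b c ⟨ha, hb, hc, hab, hne, fun e => hac (Reach.single' ha hc e.symm),
        fun e => hac ((Reach.single' ha hb hab).trans' (Reach.single' hb hc e.symm)), hct⟩
    · exfalso
      push_neg at hex
      have hti : (a * b)⁻¹ = a * b :=
        inv_eq_of_mul_eq_one_right (sq_mul_of_commute hE ha hb hab)
      have htM : a * b ∈ M := by
        intro c hc
        have hbc := hE.conj_mem hb hc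
        have hcc : a * b * c * (a * b) = a * (b * c * b) * a := by
          conv_lhs => arg 2; rw [hab.eq]
          simp only [mul_assoc]
        rw [hti]
        by_cases hac : Reach E a c
        · have h1 : Reach E c (b * c * b) :=
            reach_conj hE hc hb (hac.symm'.trans' (Reach.single' ha hb hab))
          rw [hcc]
          exact h1.trans' (reach_conj hE hbc ha (h1.symm'.trans' hac.symm'))
        · exact Reach.single' hc (hcc ▸ hE.conj_mem ha hbc) (hex c hc hac)
      rw [hM, Subgroup.mem_bot, mul_eq_one_iff_eq_inv, inv_eq hE hb] at htM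
      exact hne htM
  refine bw_false (p := p) (D := E) ⟨hE, hp5, fun g {d} hd => hconjG g d hd, hclass, hmul, ?_,
    ⟨y, hyE, x, hxE, hB.ncx⟩, ⟨x, hxE, z, hzE, hB.comm, hB.ne⟩⟩
  intro g a b c ha hb hc hab hne hac hga hgb hgc
  have htab : a * b ∈ E := hmul ha hb hab hne
  have hcb : ¬ Commute c b := fun e =>
    hac ((zl hE hp hb ha hc hab.symm (hab.eq ▸ htab) e).symm)
  have hct : ¬ Commute c (a * b) := fun e => by
    refine hac ((zl hE hp htab ha hc ((Commute.refl a).mul_left hab.symm) ?_ e).symm)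
    rw [hab.eq, mul_assoc, hE.sq ha, mul_one]
    exact hb
  exact hcentral ⟨ha, hb, hc, hab, hne, fun e => hac e.symm, hcb,
    not_commute_conj hE hp hc htab hct⟩ hga hgb hgc

end Cfsg.Agent.Lib.PTransp90
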