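import Cfsg.Agent.Lib.PTransp90.Basic

/-!
Under the hypothesis `CB`: a member commuting with a non-commuting pair is seen in the same way by
any further member commuting with one of the pair.
-/

set_option autoImplicit false

namespace Cfsg.Agent.Lib.PTransp90

variable {G : Type*} [Group G] {p : ℕ} [Fact p.Prime] {D : Set G}

theorem no_path (h : IsPT p D) (hp5 : 5 ≤ p) (hCB : CB D) {x y z u : G}
    (hx : x ∈ D) (hy : y ∈ D) (hz : z ∈ D) (hu : u ∈ D)
    (hzx : Commute z x) (hzy : Commute z y) (hxy : ¬ Commute x y)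
    (hux : Commute u x) (huz : ¬ Commute u z) (huy : ¬ Commute u y) : False := by
  have hp : p ≠ 2 := by omega
  set s := x * y with hs_def
  have hs : s ^ (p : ℤ) = 1 := by rw [zpow_natCast]; exact pow_of_nc h hx hy hxy
  have hsz : Commute z s := hzx.mul_right hzy
  have hflip : ∀ k : ℤ, x * s ^ k = s ^ (-k) * x := fun k =>
    Involution.mul_zpow_pair (h.sq hx) (h.sq hy) k
  set t := x * u with ht_def
  have hts : t * t = 1 := sq_mul_of_commute h hx hu hux.symm
  have hxt : x * t * x = t := by rw [ht_def, ← mul_assoc, h.sq hx, one_mul, hux.eq]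
  obtain ⟨n, hn_def⟩ : ∃ n : ℤ → G, ∀ i, n i = s ^ i * t * s ^ (-i) := ⟨_, fun _ => rfl⟩
  have hsp : ∀ {a b : ℤ}, (p : ℤ) ∣ a - b → s ^ a = s ^ b := by
    intro a b hab
    obtain ⟨c, hc⟩ := hab
    rw [show a = (p : ℤ) * c + b by omega, zpow_add, zpow_mul, hs, one_zpow, one_mul]
  have hmod : ∀ {a b : ℤ}, (p : ℤ) ∣ a - b → n a = n b := by
    intro a b hab
    simp only [hn_def]
    rw [hsp hab, hsp (show (p : ℤ) ∣ -a - -b by rw [show -a - -b = -(a - b) by ring]; exact hab.neg_right)]
  have hshift : ∀ k i : ℤ, s ^ k * n i * s ^ (-k) = n (k + i) := by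
    intro k i
    simp only [hn_def]
    rw [zpow_add, neg_add, add_comm, zpow_add]
    simp only [mul_assoc]
  have hn_flip : ∀ i : ℤ, x * n i * x = n (-i) := by
    intro i
    simp only [hn_def]
    calc x * (s ^ i * t * s ^ (-i)) * x = (x * s ^ i) * t * (s ^ (-i) * x) := by
          simp only [mul_assoc]
      _ = (s ^ (-i) * x) * t * (x * s ^ i) := by rw [← hflip]
      _ = s ^ (-i) * (x * t * x) * s ^ i := by simp only [mul_assoc]
      _ = s ^ (-i) * t * s ^ (-(-i)) := by rw [hxt, neg_neg]
  have hcomm0 : ∀ k : ℤ, ¬ (p : ℤ) ∣ k → Commute t (n k) := by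
    intro k hk
    set l := s ^ k * x with hl_def
    have hlD : l ∈ D := line_mem h hp hx hy hxy k
    have hul : ¬ Commute u l := not_commute_line h hx hy hxy hux huy hk
    have hxl : ¬ Commute x l := not_commute_line h hx hy hxy (Commute.refl x) hxy hk
    have hne : x ≠ u := fun e => huz (e ▸ hzx.symm)
    have hc : Commute l (t * l * t) := by
      by_contra hnc
      have hm : x * u ∈ D := hCB x u l
        ⟨hx, hu, hlD, hux.symm, hne, fun c => hxl c.symm, fun c => hul c.symm, hnc⟩
      exact huz (zl h hp hx hu hz hux.symm hm hzx).symm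
    have hnk : l * t * l = n k := by
      calc l * t * l = s ^ k * x * t * (s ^ (- -k) * x) := by rw [neg_neg]
        _ = s ^ k * x * t * (x * s ^ (-k)) := by rw [← hflip]
        _ = s ^ k * (x * t * x) * s ^ (-k) := by simp only [mul_assoc]
        _ = n k := by rw [hxt, hn_def]
    rw [← hnk]
    have := hc.eq
    show t * (l * t * l) = l * t * l * t
    calc t * (l * t * l) = t * l * t * l := by simp only [mul_assoc]
      _ = l * (t * l * t) := this.symm
      _ = l * t * l * t := by simp only [mul_assoc]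
  have hn0 : n 0 = t := by simp [hn_def]
  have hcomm : ∀ i j : ℤ, Commute (n i) (n j) := by
    intro i j
    by_cases hij : (p : ℤ) ∣ j - i
    · rw [hmod hij]
    · have := (Commute.conj_iff (s ^ i)).mpr (hcomm0 (j - i) hij)
      rwa [← zpow_neg, hshift, ← hn0, hshift, add_zero, add_sub_cancel] at this
  have hnsq : ∀ i : ℤ, n i * n i = 1 := by
    intro i
    simp only [hn_def]
    calc s ^ i * t * s ^ (-i) * (s ^ i * t * s ^ (-i)) = s ^ i * (t * t) * s ^ (-i) := by group
      _ = 1 := by rw [hts]; group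
  obtain ⟨X, hX_def⟩ : ∃ X : ℤ → G, ∀ m, X m = s ^ (2 * m) * x := ⟨_, fun _ => rfl⟩
  have hXsq : ∀ m, X m * X m = 1 := fun m => by
    rw [hX_def]; exact Involution.zpow_mul_mul_self (h.sq hx) (h.sq hy) (2 * m)
  have hXn : ∀ m k : ℤ, X m * n k * X m = n (2 * m - k) := by
    intro m k
    calc X m * n k * X m = s ^ (2 * m) * x * n k * (s ^ (- -(2 * m)) * x) := by rw [hX_def, neg_neg]
      _ = s ^ (2 * m) * (x * n k * x) * s ^ (-(2 * m)) := by
          rw [← hflip]; simp only [mul_assoc]
      _ = n (2 * m - k) := by rw [hn_flip, hshift, sub_eq_add_neg]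
  have hXX : ∀ i j : ℤ, X i * X j * X i = X (2 * i - j) := by
    intro i j
    calc X i * X j * X i = s ^ (2 * i) * (x * s ^ (2 * j)) * (x * s ^ (2 * i)) * x := by
          simp only [hX_def, mul_assoc]
      _ = s ^ (2 * i) * s ^ (-(2 * j)) * ((x * x) * s ^ (2 * i)) * x := by
          rw [hflip]; simp only [mul_assoc]
      _ = X (2 * i - j) := by
          rw [h.sq hx, one_mul, ← zpow_add, ← zpow_add]; simp only [hX_def]; congr 2; ring
  obtain ⟨U, hU_def⟩ : ∃ U : ℤ → G, ∀ j, U j = X j * n j := ⟨_, fun _ => rfl⟩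
  have hU' : ∀ j, U j = n j * X j := by
    intro j
    have h1 := hXn j j
    rw [show 2 * j - j = j by ring] at h1
    calc U j = X j * n j * (X j * X j) := by rw [hXsq, mul_one, hU_def]
      _ = n j * X j := by rw [← mul_assoc, h1]
  have hUn : ∀ m k : ℤ, U m * n k * U m = n (2 * m - k) := by
    intro m k
    calc U m * n k * U m = X m * n m * n k * (n m * X m) := by
          rw [← hU', ← hU_def]
      _ = X m * ((n m * n k) * n m) * X m := by simp only [mul_assoc]
      _ = n (2 * m - k) := by
          rw [(hcomm m k).eq, mul_assoc (n k), hnsq, mul_one, hXn]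
  have hUUU : ∀ i j : ℤ, U i * U j * U i =
      X (2 * i - j) * (n (3 * i - 2 * j) * n (2 * i - j) * n i) := by
    intro i j
    have e1 : n i * X j = X j * n (2 * j - i) := by
      calc n i * X j = (X j * X j) * n i * X j := by rw [hXsq, one_mul]
        _ = X j * n (2 * j - i) := by rw [← hXn]; simp only [mul_assoc]
    have e2 : ∀ a b c : G, X i * a * b * c * X i =
        (X i * a * X i) * (X i * b * X i) * (X i * c * X i) := by
      intro a b c
      symm
      simp only [← mul_assoc]
      rw [mul_assoc _ (X i) (X i), hXsq, mul_one, mul_assoc _ (X i) (X i), hXsq, mul_one]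
    calc U i * U j * U i = X i * (n i * X j) * n j * (n i * X i) := by
          conv_lhs => arg 2; rw [hU']
          simp only [hU_def, mul_assoc]

      _ = (X i * X j * X i) * (X i * n (2 * j - i) * n j * n i * X i) := by
          rw [e1]; simp only [← mul_assoc]; rw [mul_assoc _ (X i) (X i), hXsq, mul_one]
      _ = _ := by
          rw [e2, hXX, hXn, hXn, hXn]
          ring_nf
  set w := z * u * z with hw_def
  have hUW : ∀ j : ℤ, ¬ (p : ℤ) ∣ j → Commute w (U j) := by
    intro j hj
    set l := s ^ j * x with hl_def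
    have hlD : l ∈ D := line_mem h hp hx hy hxy j
    have hzl : Commute z l := (hsz.zpow_right j).mul_right hzx
    have hul : ¬ Commute u l := not_commute_line h hx hy hxy hux huy hj
    have hxl : ¬ Commute x l := not_commute_line h hx hy hxy (Commute.refl x) hxy hj
    have hne : z ≠ l := fun e => hxl (e ▸ hzx.symm)
    have hc : Commute u ((z * l) * u * (z * l)) := by
      by_contra hnc
      exact hxl (zl h hp hz hlD hx hzl (hCB z l u ⟨hz, hlD, hu, hzl, hne, huz, hul, hnc⟩) hzx.symm)
    have hc2 := (Commute.conj_iff z).mpr hc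
    rw [inv_eq h hz] at hc2
    have e1 : z * (z * l * u * (z * l)) * z = l * u * l := by
      calc z * (z * l * u * (z * l)) * z = z * (z * l * u * (l * z)) * z := by rw [← hzl.eq]
        _ = (z * z) * (l * u * l) * (z * z) := by simp only [mul_assoc]
        _ = l * u * l := by rw [h.sq hz, one_mul, mul_one]
    rw [e1] at hc2
    have e2 : U j = l * u * l := by
      have hxux : x * u * x = u := conj_eq_of_commute (h.sq hx) hux.symm
      have hu' : u = x * t := by rw [ht_def, ← mul_assoc, h.sq hx, one_mul]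
      calc U j = s ^ j * (s ^ j * x) * (s ^ j * t * s ^ (-j)) := by
            simp only [hU_def, hX_def, hn_def]; rw [two_mul, zpow_add]; simp only [mul_assoc]
        _ = s ^ j * (x * s ^ (-j)) * (s ^ j * t * s ^ (-j)) := by rw [hflip, neg_neg]
        _ = s ^ j * u * s ^ (-j) := by rw [hu']; group
        _ = s ^ j * (x * u * x) * s ^ (-j) := by rw [hxux]
        _ = l * u * (s ^ (- -j) * x) := by rw [← hflip]; simp only [hl_def, mul_assoc]
        _ = l * u * l := by rw [neg_neg]
    rw [e2]; exact hc2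
  have hp0 : ¬ (p : ℤ) ∣ 3 := fun hd => by have := Int.le_of_dvd (by norm_num) hd; omega
  have hp1 : ∀ j : ℤ, j ≠ 0 → |j| ≤ 3 → ¬ (p : ℤ) ∣ j := by
    intro j h0 h3 hd
    have := Int.le_of_dvd (abs_pos.mpr h0) ((dvd_abs _ _).mpr hd)
    omega
  have h51 : Commute w (n 5 * n 1) := by
    have h1 := hUW 1 (hp1 1 (by norm_num) (by norm_num))
    have h2 := hUW (-1) (hp1 (-1) (by norm_num) (by norm_num))
    have h3 := hUW 3 hp0
    have e : n 5 * n 1 = U 3 * (U 1 * U (-1) * U 1) := by
      rw [hUUU, hU_def]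
      norm_num
      calc n 5 * n 1 = (X 3 * n 3 * X 3) * ((n 5 * n 3) * n 1) := by
            rw [hXn]; norm_num
            rw [(hcomm 5 3).eq, ← mul_assoc, ← mul_assoc, hnsq, one_mul]
        _ = X 3 * n 3 * (X 3 * (n 5 * n 3 * n 1)) := by simp only [mul_assoc]
    rw [e]; exact h3.mul_right ((h1.mul_right h2).mul_right h1)
  have hstep : ∀ r : ℕ, Commute w (n (1 + 2 * r) * n (5 + 2 * r)) := by
    intro r
    induction r with
    | zero => simpa [(hcomm 1 5).eq] using h51
    | succ r ih =>
      have h1 := hUW 1 (hp1 1 (by norm_num) (by norm_num))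
      have h2 := hUW 2 (hp1 2 (by norm_num) (by norm_num))
      have key := (h2.mul_right h1).mul_right (ih.mul_right (h1.mul_right h2))
      have e : U 2 * U 1 * (n (1 + 2 * r) * n (5 + 2 * r) * (U 1 * U 2))
          = n (1 + 2 * ((r + 1 : ℕ) : ℤ)) * n (5 + 2 * ((r + 1 : ℕ) : ℤ)) := by
        have hUsq : ∀ m, U m * U m = 1 := fun m => by
          conv_lhs => arg 2; rw [hU']
          rw [hU_def, mul_assoc, ← mul_assoc (n m), hnsq, one_mul, hXsq]
        calc U 2 * U 1 * (n (1 + 2 * r) * n (5 + 2 * r) * (U 1 * U 2))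
            = (U 2 * (U 1 * n (1 + 2 * r) * U 1) * U 2) * (U 2 * (U 1 * n (5 + 2 * r) * U 1) * U 2) := by
              simp only [← mul_assoc]
              rw [mul_assoc _ (U 2) (U 2), hUsq, mul_one, mul_assoc _ (U 1) (U 1), hUsq, mul_one]
          _ = _ := by
              rw [hUn, hUn, hUn, hUn]; push_cast; ring_nf
      rwa [e] at key
  have hall : ∀ a : ℤ, Commute w (n a * n (a + 4)) := by
    intro a
    obtain ⟨j, hj⟩ := (Fact.out : p.Prime).odd_of_ne_two hp
    obtain ⟨r, hr⟩ : ∃ r : ℕ, (p : ℤ) ∣ (r : ℤ) - (a - 1) * (j + 1) :=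
      ⟨(((a - 1) * (j + 1)) % (p : ℤ)).toNat, by
        rw [Int.toNat_of_nonneg (Int.emod_nonneg _ (by omega))]
        exact Dvd.intro (-((a - 1) * ((j : ℤ) + 1) / (p : ℤ))) (by
          rw [Int.emod_def]; ring)⟩
    obtain ⟨c, hc⟩ := hr
    have hd : (p : ℤ) ∣ (1 + 2 * (r : ℤ)) - a := by
      refine ⟨2 * c + (a - 1), ?_⟩
      have : (p : ℤ) = 2 * (j : ℤ) + 1 := by exact_mod_cast hj
      linear_combination 2 * hc - (a - 1) * this
    have hd' : (p : ℤ) ∣ (5 + 2 * (r : ℤ)) - (a + 4) := by
      rwa [show (5 + 2 * (r : ℤ)) - (a + 4) = (1 + 2 * (r : ℤ)) - a by ring]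
    have := hstep r
    rwa [hmod hd, hmod hd'] at this
  have htel : ∀ (k : ℕ) (a : ℤ), Commute w (n a * n (a + 4 * k)) := by
    intro k
    induction k with
    | zero => intro a; simp [hnsq]
    | succ k ih =>
      intro a
      have := (ih a).mul_right (hall (a + 4 * k))
      rw [mul_assoc, ← mul_assoc (n (a + 4 * k)), hnsq, one_mul] at this
      rwa [show a + 4 * ((k + 1 : ℕ) : ℤ) = a + 4 * k + 4 by push_cast; ring]
  have h11 : Commute w (n (-1) * n 1) := by
    obtain ⟨j, hj⟩ := (Fact.out : p.Prime).odd_of_ne_two hp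
    have := htel (j + 1) (-1)
    have e : n (-1 + 4 * ((j + 1 : ℕ) : ℤ)) = n 1 := hmod ⟨2, by
      have : (p : ℤ) = 2 * (j : ℤ) + 1 := by exact_mod_cast hj
      push_cast; linear_combination (-2 : ℤ) * this⟩
    rwa [e] at this
  have hwu : Commute w u := by
    have h1 := hUW 1 (hp1 1 (by norm_num) (by norm_num))
    have h2 := hUW 2 (hp1 2 (by norm_num) (by norm_num))
    have e : u = U 1 * U 2 * U 1 * (n (-1) * n 1) := by
      rw [hUUU]
      norm_num
      have hX0 : X 0 = x := by simp [hX_def]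
      rw [hX0, hn0]
      have hc1 : Commute t (n 1) := hn0 ▸ hcomm 0 1
      have hc2 : Commute (n (-1)) (n 1) := hcomm (-1) 1
      have hc3 : Commute t (n (-1)) := hn0 ▸ hcomm 0 (-1)
      calc u = x * t := by rw [ht_def, ← mul_assoc, h.sq hx, one_mul]
        _ = x * ((n (-1) * n (-1)) * t * (n 1 * n 1)) := by rw [hnsq, hnsq, one_mul, mul_one]
        _ = x * (n (-1) * t * n 1 * (n (-1) * n 1)) := by
            congr 1
            calc n (-1) * n (-1) * t * (n 1 * n 1) = n (-1) * (n (-1) * (t * n 1)) * n 1 := by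
                  simp only [mul_assoc]
              _ = n (-1) * ((t * n 1) * n (-1)) * n 1 := by
                  rw [(hc3.symm.mul_right hc2).eq]
              _ = _ := by simp only [mul_assoc]
        _ = _ := by simp only [mul_assoc]
    rw [e]; exact ((h1.mul_right h2).mul_right h1).mul_right h11
  have ho := order_of_nc h hu hz huz
  have hsq := sq_mul_of_commute h hu (h.conj_mem hz hu) hwu.symm
  have h4 : (u * z) ^ 4 = 1 := by
    rw [show (u * z) ^ 4 = u * (z * u * z) * (u * (z * u * z)) by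
      simp only [pow_succ, pow_zero, one_mul, mul_assoc]]
    exact hsq
  have hd : p ∣ 2 * 2 := ho ▸ orderOf_dvd_of_pow_eq_one h4
  rcases (Fact.out : p.Prime).dvd_mul.mp hd with h2 | h2 <;>
    exact hp ((Nat.prime_dvd_prime_iff_eq Fact.out Nat.prime_two).mp h2)

end Cfsg.Agent.Lib.PTransp90
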