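import Cfsg.Agent.Lib.PTransp90.Minimal
import Cfsg.Agent.Lib.Components.GenFitting

/-!
A rank three class with products of order 2 or `p ≥ 5` forces a nontrivial solvable normal subgroup.
-/

set_option autoImplicit false

open Cfsg

namespace Cfsg.Agent.Lib.PTransp90

universe u

variable {G : Type u} [Group G] [Finite G] {p : ℕ} [Fact p.Prime] {D : Set G}

theorem false_of_rank_three (hp5 : 5 ≤ p) (h : IsPT p D)
    (hsol : ∀ N : Subgroup G, N.Normal → Group.IsSolvable ↥N → N = ⊥)
    (hgen : Subgroup.closure D = ⊤) (hclass : ∀ a ∈ D, ∀ b ∈ D, IsConj a b)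
    (hnc : ∃ a ∈ D, ∃ b ∈ D, ¬ Commute a b) (hpair : ∃ a ∈ D, ∃ b ∈ D, Commute a b ∧ a ≠ b)
    (hrank : ∀ x ∈ D, ∀ y ∈ D, ∀ y' ∈ D, ¬ Commute x y → ¬ Commute x y' →
      ∃ g : G, Commute g x ∧ g * y * g⁻¹ = y') : False := by
  classical
  have hp : p ≠ 2 := by omega
  have hnoB : ∀ x z y : G, ¬ IsB D x z y := not_isB hp5 h
  have hCB : CB D := fun x z y hB => (hnoB x z y hB).elim
  have hD : ∀ g : G, ∀ d ∈ D, g * d * g⁻¹ ∈ D := fun g d hd =>
    conj_mem_of_gen (fun e he => inv_eq h he) hgen (fun e he => conj_mem' h he) g hd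
  -- commuting is transitive
  have htr : ∀ a ∈ D, ∀ b ∈ D, ∀ c ∈ D, Commute c a → Commute c b → Commute a b := by
    intro x0 hx0 y0 hy0 z0 hz0 hzx hzy
    by_contra hxy
    obtain ⟨b, hb, hnr⟩ := exists_not_reach h hp5 hCB hgen hclass hnc hx0
    have hnb : ¬ Commute x0 b := fun c => hnr (Reach.single' hx0 hb c)
    obtain ⟨g, hg, hgy⟩ := hrank x0 hx0 y0 hy0 b hb hxy hnb
    have hgx : g * x0 * g⁻¹ = x0 := mul_inv_eq_iff_eq_mul.mpr hg
    have h1 := (Commute.conj_iff g).mpr hzx
    rw [hgx] at h1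
    have h2 := (Commute.conj_iff g).mpr hzy
    rw [hgy] at h2
    exact hnr ((Reach.single' hx0 (hD g z0 hz0) h1.symm).trans'
      (Reach.single' (hD g z0 hz0) hb h2))
  let M : Subgroup G :=
    { carrier := {g | ∀ a ∈ D, Commute a (g * a * g⁻¹)}
      one_mem' := fun a _ => by rw [one_mul, inv_one, mul_one]
      mul_mem' := fun {g g'} hg hg' a ha => by
        have := htr a ha _ (hD g _ (hD g' a ha)) _ (hD g' a ha) (hg' a ha).symm
          (hg _ (hD g' a ha))
        rwa [show g * (g' * a * g'⁻¹) * g⁻¹ = g * g' * a * (g * g')⁻¹ by group] at this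
      inv_mem' := fun {g} hg a ha => by
        have := (hg _ (hD g⁻¹ a ha)).symm
        rwa [show g * (g⁻¹ * a * g⁻¹⁻¹) * g⁻¹ = a by group] at this }
  haveI hMn : M.Normal := ⟨fun m hm g a ha => by
    have := (Commute.conj_iff g).mpr (hm _ (hD g⁻¹ a ha))
    rw [show g * (g⁻¹ * a * g⁻¹⁻¹) * g⁻¹ = a by group] at this
    rwa [show g * (m * (g⁻¹ * a * g⁻¹⁻¹) * m⁻¹) * g⁻¹ = g * m * g⁻¹ * a * (g * m * g⁻¹)⁻¹ by group]
      at this⟩
  obtain ⟨a, ha, b, hb, hab, hne⟩ := hpair
  have hti : (a * b)⁻¹ = a * b := inv_eq_of_mul_eq_one_right (sq_mul_of_commute h ha hb hab)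
  have htM : a * b ∈ M := by
    intro c hc
    rw [hti]
    by_cases hca : Commute c a
    · have hcb : Commute c b := htr c hc b hb a ha hca.symm hab
      rw [conj_eq_of_commute (sq_mul_of_commute h ha hb hab) (hca.mul_right hcb).symm]
    · by_contra hnct
      refine hnoB a b c ⟨ha, hb, hc, hab, hne, hca, fun e => ?_, hnct⟩
      exact hca (htr c hc a ha b hb e.symm hab.symm)
  set A := Subgroup.closure {c : G | c ∈ D ∧ Commute a c}
  have hA : ∀ u ∈ A, ∀ v ∈ A, u * v = v * u := by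
    have h1 : A ≤ Subgroup.centralizer (A : Set G) := by
      rw [Subgroup.centralizer_closure, Subgroup.closure_le]
      intro u hu
      rw [SetLike.mem_coe, Subgroup.mem_centralizer_iff]
      intro v hv
      exact (htr u hu.1 v hv.1 a ha hu.2 hv.2).eq.symm
    intro u hu v hv
    exact (Subgroup.mem_centralizer_iff.mp (h1 hu) v hv).symm
  have hAmap : ∀ g ∈ M, ∀ u ∈ A, g * u * g⁻¹ ∈ A := by
    intro g hg u hu
    induction hu using Subgroup.closure_induction with
    | mem v hv =>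
      exact Subgroup.subset_closure ⟨hD g v hv.1,
        htr a ha _ (hD g v hv.1) v hv.1 hv.2.symm (hg v hv.1)⟩
    | one => simp
    | mul v w _ _ hv hw =>
      have := A.mul_mem hv hw
      rwa [show g * v * g⁻¹ * (g * w * g⁻¹) = g * (v * w) * g⁻¹ by group] at this
    | inv v _ hv =>
      have := A.inv_mem hv
      rwa [show (g * v * g⁻¹)⁻¹ = g * v⁻¹ * g⁻¹ by group] at this
  set W : Subgroup M := A.subgroupOf M
  haveI hWn : W.Normal := ⟨fun w hw g => hAmap g g.2 w hw⟩
  have hWsol : Group.IsSolvable W :=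
    Group.isSolvable_of_comm fun u v => Subtype.ext (Subtype.ext (hA _ u.2 _ v.2))
  haveI := Components.solvableRadical_characteristic (G := M)
  have hRn : ((solvableRadical M).map M.subtype).Normal :=
    ConjAct.normal_of_characteristic_of_normal
  have hbot := hsol _ hRn
    (Components.isSolvable_subgroup_map Components.solvableRadical_isSolvable _)
  have htW : (⟨a * b, htM⟩ : M) ∈ solvableRadical M :=
    (le_sSup (show W ∈ {N : Subgroup M | N.Normal ∧ Group.IsSolvable N} from ⟨hWn, hWsol⟩))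
      (show a * b ∈ A from A.mul_mem (Subgroup.subset_closure ⟨ha, Commute.refl a⟩)
        (Subgroup.subset_closure ⟨hb, hab⟩))
  have ht1 : a * b = 1 := by
    have : a * b ∈ (solvableRadical M).map M.subtype := ⟨_, htW, rfl⟩
    rwa [hbot, Subgroup.mem_bot] at this
  exact hne ((eq_inv_of_mul_eq_one_left ht1).trans (inv_eq h hb))

end Cfsg.Agent.Lib.PTransp90
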